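import Cfsg.Agent.Lib.SylowRigid.Opposite
import Cfsg.Agent.Lib.Suzuki.LieEquiv
import Cfsg.Agent.Lib.Ree.Borel

/-!
# Rigidity in rank one: Suzuki and Ree groups
-/

set_option autoImplicit false
set_option linter.unusedSectionVars false

namespace Cfsg.Agent.SylowRigid

open Subgroup
open Cfsg.Agent.Chevalley.Twist.G2 (nn uu bor coset_cases nn_not_bor uu_mem_bor)
open Cfsg.Agent.Ree (UB)

variable {G : Type*} [Group G] {p : ℕ}

theorem cj_of_mem_normalizer {g : G} {Q : Subgroup G} (hg : g ∈ normalizer (Q : Set G)) :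
    cj g Q = Q := by
  refine Subgroup.ext fun x => ⟨?_, fun hx => ⟨g⁻¹ * x * g, ?_, by
    show g * (g⁻¹ * x * g) * g⁻¹ = x; group⟩⟩
  · rintro ⟨y, hy, rfl⟩
    exact (mem_normalizer_iff.1 hg y).1 hy
  · have := (mem_normalizer_iff.1 (inv_mem hg) x).1 hx
    rwa [inv_inv] at this

/-- A Sylow subgroup is free on the conjugates meeting it trivially. -/
theorem free_of_opp [Finite G] [Fact p.Prime] (P : Sylow p G) {n : G}
    (hopp : (P : Subgroup G) ⊓ cj n P = ⊥) :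
    ∀ u ∈ (P : Subgroup G), cj (u * n) (P : Subgroup G) = cj n P → u = 1 := by
  intro u hu e
  have hmap : cj (n⁻¹ * (u * n)) (P : Subgroup G) = P := by rw [← cj_cj, e, cj_inv_cj]
  have hx : n⁻¹ * (u * n) ∈ normalizer ((P : Subgroup G) : Set G) :=
    mem_normalizer_iff_map_conj_eq.2 hmap
  obtain ⟨k, hk⟩ := P.2 ⟨u, hu⟩
  have hk' : u ^ p ^ k = 1 := congrArg Subtype.val hk
  have hz : IsPGroup p (zpowers (n⁻¹ * (u * n))) := by
    obtain ⟨j, -, hj⟩ := (Nat.dvd_prime_pow (Fact.out : p.Prime)).1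
      (orderOf_dvd_of_pow_eq_one hk')
    refine IsPGroup.of_card (n := j) ?_
    rw [Nat.card_zpowers, show n⁻¹ * (u * n) = MulAut.conj n⁻¹ u by simp [mul_assoc],
      MulEquiv.orderOf_eq, hj]
  have hle : zpowers (n⁻¹ * (u * n)) ≤ normalizer ((P : Subgroup G) : Set G) :=
    zpowers_le.2 hx
  have hsup : IsPGroup p (zpowers (n⁻¹ * (u * n)) ⊔ (P : Subgroup G) : Subgroup G) :=
    hz.to_sup_of_normal_right' P.2 hle
  have hmem : n⁻¹ * (u * n) ∈ (P : Subgroup G) := by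
    rw [← P.3 hsup le_sup_right]
    exact mem_sup_left (mem_zpowers _)
  have : u ∈ (P : Subgroup G) ⊓ cj n P := ⟨hu, _, hmem, by
    show n * (n⁻¹ * (u * n)) * n⁻¹ = u; group⟩
  rwa [hopp, mem_bot] at this

/-- A Sylow subgroup with one further orbit of conjugates, meeting it trivially. -/
theorem rigid_rank_one [IsSimpleGroup G] [Finite G] [Fact p.Prime] (P : Sylow p G)
    (hne : (P : Subgroup G) ≠ ⊥) (n : G) (hopp : (P : Subgroup G) ⊓ cj n P = ⊥)
    (hcases : ∀ g : G, g ∈ normalizer ((P : Subgroup G) : Set G) ∨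
      ∃ u ∈ (P : Subgroup G), (u * n)⁻¹ * g ∈ normalizer ((P : Subgroup G) : Set G)) :
    Rigid p (P : Subgroup G) := by
  have hmove : ∀ g : G, cj g (P : Subgroup G) = P ∨
      ∃ u ∈ (P : Subgroup G), cj g (P : Subgroup G) = cj (u * n) P := by
    intro g
    rcases hcases g with h | ⟨u, hu, h⟩
    · exact Or.inl (cj_of_mem_normalizer h)
    · refine Or.inr ⟨u, hu, ?_⟩
      calc cj g (P : Subgroup G) = cj (u * n) (cj ((u * n)⁻¹ * g) P) := by
            rw [cj_cj, mul_inv_cancel_left]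
        _ = _ := by rw [cj_of_mem_normalizer h]
  have hpair : ∀ g : G, cj g (P : Subgroup G) ≠ P → (P : Subgroup G) ⊓ cj g P = ⊥ := by
    intro g hg
    rcases hmove g with h | ⟨u, hu, h⟩
    · exact absurd h hg
    · have := congrArg (cj u) hopp
      rwa [cj_inf, cj_eq_self_of_mem hu, cj_bot, cj_cj, ← h] at this
  have hfree := free_of_opp P hopp
  refine rigid_of_opposite P.2 le_rfl hne n hopp ?_ hfree ?_
  · intro g hg
    refine (hmove g).resolve_left fun h => hne ?_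
    rwa [h, inf_idem] at hg
  · intro g
    obtain ⟨u, hu, hu1⟩ := (P : Subgroup G).bot_or_exists_ne_one.resolve_left hne
    have key : ∀ h : G, cj g (P : Subgroup G) ≠ cj h P →
        cj g (P : Subgroup G) ⊓ cj h P = ⊥ := by
      intro h hh
      have h1 := hpair (g⁻¹ * h) fun e => hh (by
        have := congrArg (cj g) e
        rw [cj_cj, mul_inv_cancel_left] at this
        exact this.symm)
      have := congrArg (cj g) h1
      rwa [cj_inf, cj_bot, cj_cj, mul_inv_cancel_left] at this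
    by_cases hg : cj g (P : Subgroup G) = cj n P
    · have hopp' : (P : Subgroup G) ⊓ cj (u * n) P = ⊥ := by
        have := congrArg (cj u) hopp
        rwa [cj_inf, cj_eq_self_of_mem hu, cj_bot, cj_cj] at this
      exact ⟨u * n, hopp', key _ fun h => hu1 (hfree u hu (h.symm.trans hg))⟩
    · exact ⟨n, hopp, key _ hg⟩

theorem rigid_suzuki {F : Type*} [Field F] [Fintype F] [CharP F 2] {m : ℕ} (hm : 1 ≤ m)
    (hF : Fintype.card F = 2 ^ (2 * m + 1)) (P : Sylow 2 (Cfsg.Sz F m)) :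
    Rigid 2 (P : Subgroup (Cfsg.Sz F m)) := by
  haveI : Fact (Nat.Prime 2) := ⟨Nat.prime_two⟩
  haveI := Suzuki.isSimple hm hF
  obtain ⟨P₀, hP₀⟩ := Suzuki.exists_sylow hm hF
  refine rigid_sylow (P₀ := P₀) (rigid_rank_one P₀ ?_ (Suzuki.sw hF) ?_ ?_) P
  · rw [hP₀]
    intro h
    have h1 : Suzuki.tr hF (1 : F) 0 ∈ Suzuki.U (m := m) hF := ⟨1, 0, rfl⟩
    rw [h, mem_bot, ← Suzuki.tr_zero hF] at h1
    exact one_ne_zero (Suzuki.tr_injective hF h1).1
  · rw [hP₀, eq_bot_iff]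
    rintro _ ⟨⟨a, b, rfl⟩, x, ⟨c, d, rfl⟩, e⟩
    have h1 := congrArg (fun g : Cfsg.Sz F m => g • Suzuki.point (F := F) m 0 0) e
    simp only [MulEquiv.coe_toMonoidHom, MulAut.conj_apply, mul_smul, Suzuki.sw_inv,
      Suzuki.sw_smul_zero, Suzuki.tr_smul_infty, Suzuki.sw_smul_infty, Suzuki.tr_smul_zero] at h1
    obtain ⟨rfl, rfl⟩ := Suzuki.point_injective h1.symm
    rw [Suzuki.tr_zero]
    exact one_mem _
  · intro g
    rw [hP₀, Suzuki.normalizer_U hm hF]
    rcases Suzuki.bruhat hm hF g with ⟨a, b, s, rfl⟩ | ⟨a, b, c, d, s, rfl⟩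
    · left
      rw [MulAction.mem_stabilizer_iff, mul_smul, Suzuki.tor_smul_infty, Suzuki.tr_smul_infty]
    · right
      refine ⟨_, ⟨a, b, rfl⟩, ?_⟩
      rw [inv_mul_cancel_left, MulAction.mem_stabilizer_iff, mul_smul, Suzuki.tor_smul_infty,
        Suzuki.tr_smul_infty]

theorem rigid_ree {K : Type*} [Field K] [Fintype K] [CharP K 3] {m : ℕ} (hm : 1 ≤ m)
    (hK : Fintype.card K = 3 ^ (2 * m + 1)) (P : Sylow 3 (Cfsg.Lie.twistedG2 K (3 ^ m))) :
    Rigid 3 (P : Subgroup (Cfsg.Lie.twistedG2 K (3 ^ m))) := by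
  haveI : Fact (Nat.Prime 3) := ⟨Nat.prime_three⟩
  obtain ⟨X⟩ := Chevalley.Twist.G2.exists_setup hK
  haveI := (Chevalley.Twist.G2.isSimple X hm).1
  obtain ⟨P₀, hP₀⟩ := Ree.exists_sylow X
  refine rigid_sylow (P₀ := P₀) (rigid_rank_one P₀ ?_ (nn X) ?_ ?_) P
  · rw [hP₀]
    intro h
    have h1 := Ree.uu_mem X ((1 : K), (0 : K), (0 : K))
    rw [h, mem_bot, ← Ree.uu_zero X] at h1
    exact one_ne_zero (Ree.uu_inj X h1).1
  · rw [hP₀, eq_bot_iff]
    rintro g ⟨hg, x, hx, rfl⟩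
    obtain ⟨t, u, v, e⟩ := Ree.mem_UB X hg
    rw [e, mem_bot]
    by_contra hne
    have hp : (t, u, v) ≠ 0 := fun h0 => hne (by rw [h0]; exact Ree.uu_zero X)
    have hz : uu X (t, u, v) • ((nn X : Cfsg.Lie.twistedG2 K (3 ^ m)) :
        Cfsg.Lie.twistedG2 K (3 ^ m) ⧸ bor X) = (nn X : Cfsg.Lie.twistedG2 K (3 ^ m)) := by
      rw [← e, MulAction.Quotient.smul_coe, smul_eq_mul, QuotientGroup.eq]
      show (nn X * x * (nn X)⁻¹ * nn X)⁻¹ * nn X ∈ bor X
      rw [show (nn X * x * (nn X)⁻¹ * nn X)⁻¹ * nn X = x⁻¹ by group]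
      exact inv_mem (Ree.UB_le_bor X hx)
    have h2 := Ree.uu_fix_only_base X hp hz
    rw [QuotientGroup.eq, mul_one, inv_mem_iff] at h2
    exact nn_not_bor X 0 (mul_mem (uu_mem_bor X 0) h2)
  · intro g
    rw [hP₀]
    have hb : ∀ b ∈ bor X,
        b ∈ normalizer ((UB X : Subgroup (Cfsg.Lie.twistedG2 K (3 ^ m))) : Set _) := by
      intro b hb
      refine mem_normalizer_iff.2 fun x => ⟨fun hx => Ree.bor_conj_mem X hb hx, fun hx => ?_⟩
      have := Ree.bor_conj_mem X (inv_mem hb) hx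
      rwa [show b⁻¹ * (b * x * b⁻¹) * b⁻¹⁻¹ = x by group] at this
    rcases coset_cases X (g : Cfsg.Lie.twistedG2 K (3 ^ m) ⧸ bor X) with h | ⟨q, h⟩
    · left
      rw [QuotientGroup.eq, mul_one, inv_mem_iff] at h
      exact hb g h
    · right
      refine ⟨uu X q, Ree.uu_mem X q, ?_⟩
      rw [eq_comm, QuotientGroup.eq] at h
      exact hb _ h

end Cfsg.Agent.SylowRigid
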