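import Cfsg.Agent.Lib.SylowRigid.Twisted
import Cfsg.Agent.Lib.Chevalley.Twist.AutExt
import Cfsg.Agent.Lib.Chevalley.Twist.CountE6
import Cfsg.Agent.Lib.Chevalley.Twist.CountD4
import Cfsg.Agent.Lib.Chevalley.Twist.CountF4
import Cfsg.Agent.Lib.Chevalley.Twist.SimpleE6
import Cfsg.Agent.Lib.Chevalley.Twist.SimpleD4
import Cfsg.Agent.Lib.Chevalley.Twist.SimpleF4

/-!
# Rigidity for the twisted exceptional groups in the defining characteristic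
-/

set_option autoImplicit false

namespace Cfsg.Agent.SylowRigid.TwistedExc

open Cfsg.Lie Cfsg.Agent.Chevalley

variable {F : Type*} [Field F] [Fintype F] {p : ℕ} [Fact p.Prime]

theorem exists_pow [CharP F p] {q : ℕ} (hq : IsPrimePow q) {n : ℕ} (hn : n ≠ 0)
    (hF : Fintype.card F = q ^ n) : ∃ f, f ≠ 0 ∧ q = p ^ f := by
  obtain ⟨r, k, hr, hk, rfl⟩ := hq
  obtain ⟨a, hp, ha⟩ := FiniteField.card F p
  rw [hF, ← pow_mul] at ha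
  have hrp : r = p := (Nat.prime_dvd_prime_iff_eq hr.nat_prime hp).1
    (hr.nat_prime.dvd_of_dvd_pow (n := a)
      (ha ▸ dvd_pow_self r (Nat.mul_ne_zero hk.ne' hn)))
  exact ⟨k, hk.ne', by rw [hrp]⟩

theorem not_dvd_succ {x : ℕ} (h : p ∣ x) : ¬ p ∣ x + 1 := fun h' =>
  (Fact.out : p.Prime).not_dvd_one ((Nat.dvd_add_right h).1 h')

theorem not_dvd_pred {x : ℕ} (h : p ∣ x) (h1 : 1 ≤ x) : ¬ p ∣ x - 1 := fun h' =>
  (Fact.out : p.Prime).not_dvd_one (by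
    have := Nat.dvd_sub h h'
    rwa [show x - (x - 1) = 1 by omega] at this)

theorem twistedE6 [CharP F p] {q : ℕ} (hq : IsPrimePow q) (hF : Fintype.card F = q ^ 2)
    [IsSimpleGroup (Cfsg.Lie.twistedE6 F q)]
    (P : Sylow p ↥(Cfsg.Lie.twistedE6 F q)) : Rigid p (P : Subgroup ↥(Cfsg.Lie.twistedE6 F q)) := by
  classical
  obtain ⟨X⟩ := Twist.E6.exists_setup hq hF
  obtain ⟨f, hf, hqp⟩ := exists_pow (p := p) hq two_ne_zero hF
  have hpq : p ∣ q := hqp ▸ dvd_pow_self p hf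
  have hpk : ∀ k : ℕ, k ≠ 0 → p ∣ q ^ k := fun k hk => dvd_pow hpq hk
  have h1 : ∀ k : ℕ, 1 ≤ q ^ k := fun k => Nat.one_le_pow _ _ hq.pos
  set M := (q ^ 2 - 1) * (q ^ 5 + 1) * (q ^ 6 - 1) * (q ^ 8 - 1) * (q ^ 9 + 1) * (q ^ 12 - 1)
    with hMdef
  have hM : ¬ p ∣ M := by
    simp only [hMdef, (Fact.out : p.Prime).dvd_mul, not_or]
    exact ⟨⟨⟨⟨⟨not_dvd_pred (hpk 2 (by decide)) (h1 2), not_dvd_succ (hpk 5 (by decide))⟩,
      not_dvd_pred (hpk 6 (by decide)) (h1 6)⟩, not_dvd_pred (hpk 8 (by decide)) (h1 8)⟩,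
      not_dvd_succ (hpk 9 (by decide))⟩, not_dvd_pred (hpk 12 (by decide)) (h1 12)⟩
  have hcard : Nat.gcd 3 (q + 1) * Nat.card (Cfsg.Lie.twistedE6 F q) = q ^ 36 * M := by
    rw [Twist.E6.card_group X hq]; simp only [hMdef]; ring
  have hcop : Nat.Coprime (Nat.gcd 3 (q + 1)) (q ^ 36) :=
    ((show Nat.Coprime (q + 1) q by simp).coprime_dvd_left (Nat.gcd_dvd_right _ _)).pow_right _
  obtain ⟨M', hM'⟩ : Nat.gcd 3 (q + 1) ∣ M := hcop.dvd_of_dvd_mul_left ⟨_, hcard.symm⟩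
  have hd : 0 < Nat.gcd 3 (q + 1) := Nat.gcd_pos_of_pos_left _ (by norm_num)
  obtain ⟨P₀, hP₀⟩ := Twist.exists_sylow_UK (D := chevE6) (K := Cfsg.Lie.twistedE6 F q) p (f * 36) M'
    (by rw [Twist.E6.card_U X hq, hqp, ← pow_mul])
    (Nat.eq_of_mul_eq_mul_left hd (by rw [hcard, hM', pow_mul, ← hqp]; ring))
    (fun h => hM (hM' ▸ h.mul_left _))
  exact Twisted.rigid X.O X.gen (Twist.E6.hne X) (by rw [X.k_eq]; decide) p P₀ hP₀ P

theorem twistedD4 [CharP F p] {q : ℕ} (hq : IsPrimePow q) (hF : Fintype.card F = q ^ 3)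
    [IsSimpleGroup (Cfsg.Lie.twistedD4 F q)]
    (P : Sylow p ↥(Cfsg.Lie.twistedD4 F q)) : Rigid p (P : Subgroup ↥(Cfsg.Lie.twistedD4 F q)) := by
  classical
  obtain ⟨X⟩ := Twist.D4.exists_setup hq hF
  obtain ⟨f, hf, hqp⟩ := exists_pow (p := p) hq three_ne_zero hF
  have hpq : p ∣ q := hqp ▸ dvd_pow_self p hf
  have hpk : ∀ k : ℕ, k ≠ 0 → p ∣ q ^ k := fun k hk => dvd_pow hpq hk
  have h1 : ∀ k : ℕ, 1 ≤ q ^ k := fun k => Nat.one_le_pow _ _ hq.pos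
  have hM : ¬ p ∣ (q ^ 2 - 1) * (q ^ 6 - 1) * (q ^ 8 + q ^ 4 + 1) := by
    simp only [(Fact.out : p.Prime).dvd_mul, not_or]
    exact ⟨⟨not_dvd_pred (hpk 2 (by decide)) (h1 2), not_dvd_pred (hpk 6 (by decide)) (h1 6)⟩,
      not_dvd_succ (dvd_add (hpk 8 (by decide)) (hpk 4 (by decide)))⟩
  obtain ⟨P₀, hP₀⟩ := Twist.exists_sylow_UK (D := chevD4) (K := Cfsg.Lie.twistedD4 F q) p (f * 12)
    ((q ^ 2 - 1) * (q ^ 6 - 1) * (q ^ 8 + q ^ 4 + 1))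
    (by rw [Twist.D4.card_U X hq, hqp, ← pow_mul])
    (by rw [Twist.D4.card_group X hq, pow_mul, ← hqp]; ring) hM
  exact Twisted.rigid X.O X.gen (Twist.D4.hne X) (by rw [X.k_eq]; decide) p P₀ hP₀ P

theorem twistedF4 [CharP F 2] {m : ℕ} (hF : Fintype.card F = 2 ^ (2 * m + 1))
    [IsSimpleGroup (Cfsg.Lie.twistedF4 F (2 ^ m))] [Fact (Nat.Prime 2)]
    (P : Sylow 2 ↥(Cfsg.Lie.twistedF4 F (2 ^ m))) :
    Rigid 2 (P : Subgroup ↥(Cfsg.Lie.twistedF4 F (2 ^ m))) := by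
  classical
  obtain ⟨X⟩ := Twist.F4.exists_setup hF
  set r := 2 ^ (2 * m + 1) with hr
  have hpr : 2 ∣ r := dvd_pow_self 2 (by omega)
  have h1 : ∀ k : ℕ, 1 ≤ r ^ k := fun k => Nat.one_le_pow _ _ (Nat.two_pow_pos _)
  have hM : ¬ 2 ∣ (r - 1) * (r ^ 3 + 1) * (r ^ 4 - 1) * (r ^ 6 + 1) := by
    simp only [Nat.prime_two.dvd_mul, not_or]
    exact ⟨⟨⟨not_dvd_pred hpr Nat.one_le_two_pow, not_dvd_succ (dvd_pow hpr (by decide))⟩,
      not_dvd_pred (dvd_pow hpr (by decide)) (h1 4)⟩, not_dvd_succ (dvd_pow hpr (by decide))⟩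
  obtain ⟨P₀, hP₀⟩ := Twist.exists_sylow_UK (D := chevF4) (K := Cfsg.Lie.twistedF4 F (2 ^ m)) 2
    ((2 * m + 1) * 12) _
    (by rw [Twist.F4.card_U X, ← pow_mul])
    (by rw [Twist.F4.card_group X, ← hr, pow_mul, ← hr]; ring) hM
  exact Twisted.rigid X.O X.gen (Twist.F4.hne X) (by rw [X.k_eq]; decide) 2 P₀ hP₀ P

end Cfsg.Agent.SylowRigid.TwistedExc
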