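import Cfsg.Agent.Lib.SylowRigid.Basic

/-!
# Rigidity from opposition

`Q ≤ U` with the conjugates of `Q` meeting `Q` trivially forming one regular `Q`-orbit, and any two
conjugates of `Q` having a common conjugate meeting both trivially.
-/

set_option autoImplicit false

namespace Cfsg.Agent.SylowRigid

open Subgroup

variable {G : Type*} [Group G] {p : ℕ}

/-- the conjugate of a subgroup -/
abbrev cj (g : G) (Q : Subgroup G) : Subgroup G := Q.map (MulAut.conj g).toMonoidHom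

theorem cj_cj (g h : G) (Q : Subgroup G) : cj g (cj h Q) = cj (g * h) Q := by
  rw [cj, cj, cj, Subgroup.map_map, map_mul]; rfl

theorem cj_one (Q : Subgroup G) : cj (1 : G) Q = Q := by
  rw [cj, map_one]; exact Subgroup.map_id Q

theorem cj_inv_cj (g : G) (Q : Subgroup G) : cj g⁻¹ (cj g Q) = Q := by
  rw [cj_cj, inv_mul_cancel, cj_one]

theorem cj_inf (g : G) (A B : Subgroup G) : cj g (A ⊓ B) = cj g A ⊓ cj g B :=
  Subgroup.map_inf _ _ _ (MulAut.conj g).injective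

theorem cj_bot (g : G) : cj g (⊥ : Subgroup G) = ⊥ := Subgroup.map_bot _

theorem cj_eq_self_of_mem {g : G} {Q : Subgroup G} (hg : g ∈ Q) : cj g Q = Q :=
  Subgroup.ext fun x => by
    refine ⟨?_, fun hx => ⟨g⁻¹ * x * g, mul_mem (mul_mem (inv_mem hg) hx) hg, by
      show g * (g⁻¹ * x * g) * g⁻¹ = x
      group⟩⟩
    rintro ⟨y, hy, rfl⟩
    exact mul_mem (mul_mem hg hy) (inv_mem hg)

theorem cj_aut (α : MulAut G) (g : G) (Q : Subgroup G) :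
    (cj g Q).map α.toMonoidHom = cj (α g) (Q.map α.toMonoidHom) := by
  rw [cj, cj, Subgroup.map_map, Subgroup.map_map]
  congr 1
  refine MonoidHom.ext fun x => ?_
  show α (g * x * g⁻¹) = α g * α x * (α g)⁻¹
  rw [map_mul, map_mul, map_inv]

/-- The opposition criterion. -/
theorem rigid_of_opposite [IsSimpleGroup G] [Fact p.Prime] {U Q : Subgroup G} (hU : IsPGroup p U)
    (hQU : Q ≤ U) (hne : Q ≠ ⊥) (n : G) (hopp : Q ⊓ cj n Q = ⊥)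
    (huniq : ∀ g : G, Q ⊓ cj g Q = ⊥ → ∃ u ∈ Q, cj g Q = cj (u * n) Q)
    (hfree : ∀ u ∈ Q, cj (u * n) Q = cj n Q → u = 1)
    (hconn : ∀ g : G, ∃ h : G, Q ⊓ cj h Q = ⊥ ∧ cj g Q ⊓ cj h Q = ⊥) : Rigid p U := by
  intro α hk hfix
  have hfQ : ∀ x ∈ Q, α x = x := fun x hx => hfix x (hQU hx)
  have hQmap : Q.map α.toMonoidHom = Q := by
    refine Subgroup.ext fun x => ⟨?_, fun hx => ⟨x, hx, hfQ x hx⟩⟩
    rintro ⟨y, hy, rfl⟩
    show α y ∈ Q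
    rwa [hfQ y hy]
  -- the conjugates opposite to `n`
  have hoppn : ∀ g : G, cj n Q ⊓ cj g Q = ⊥ → ∃ v ∈ cj n Q, cj g Q = cj v Q := by
    have hback : Q ⊓ cj n⁻¹ Q = ⊥ := by
      have := congrArg (cj n⁻¹) hopp
      rwa [cj_inf, cj_inv_cj, cj_bot, inf_comm] at this
    obtain ⟨u₀, hu₀, e₀⟩ := huniq _ hback
    intro g hg
    have hg' : Q ⊓ cj (n⁻¹ * g) Q = ⊥ := by
      have := congrArg (cj n⁻¹) hg
      rwa [cj_inf, cj_inv_cj, cj_bot, cj_cj] at this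
    obtain ⟨u, hu, e⟩ := huniq _ hg'
    refine ⟨n * (u * u₀⁻¹) * n⁻¹, ⟨u * u₀⁻¹, mul_mem hu (inv_mem hu₀), rfl⟩, ?_⟩
    calc cj g Q = cj (n * (n⁻¹ * g)) Q := by rw [mul_inv_cancel_left]
      _ = cj (n * u * n) Q := by rw [← cj_cj, e, cj_cj, mul_assoc]
      _ = cj (n * (u * u₀⁻¹)) (cj (u₀ * n) Q) := by rw [cj_cj]; congr 1; group
      _ = _ := by rw [← e₀, cj_cj]
  have hfreeV : ∀ v ∈ cj n Q, cj v Q = Q → v = 1 := by
    rintro _ ⟨q, hq, rfl⟩ h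
    change cj (n * q * n⁻¹) Q = Q at h
    show n * q * n⁻¹ = 1
    obtain ⟨u₀, hu₀, e₀⟩ := huniq _ (show Q ⊓ cj n⁻¹ Q = ⊥ by
      have := congrArg (cj n⁻¹) hopp
      rwa [cj_inf, cj_inv_cj, cj_bot, inf_comm] at this)
    have h1 : cj (q * n⁻¹) Q = cj n⁻¹ Q := by
      have := congrArg (cj n⁻¹) h
      rwa [cj_cj, show n⁻¹ * (n * q * n⁻¹) = q * n⁻¹ by group] at this
    rw [← cj_cj, e₀, cj_cj] at h1
    have h2 : u₀⁻¹ * q * u₀ = 1 := by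
      refine hfree _ (mul_mem (mul_mem (inv_mem hu₀) hq) hu₀) ?_
      have := congrArg (cj u₀⁻¹) h1
      rw [cj_cj, cj_cj] at this
      rw [show u₀⁻¹ * q * u₀ * n = u₀⁻¹ * (q * (u₀ * n)) by group, this, ← mul_assoc,
        inv_mul_cancel, one_mul]
    have hq1 : q = 1 := by
      calc q = u₀ * (u₀⁻¹ * q * u₀) * u₀⁻¹ := by group
        _ = 1 := by rw [h2]; group
    rw [hq1]; group
  -- `α` fixes the conjugate by `n`, hence every conjugate opposite to `Q`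
  have hmap : ∀ g : G, Q ⊓ cj g Q = ⊥ → Q ⊓ cj (α g) Q = ⊥ := fun g h => by
    have := congrArg (fun A : Subgroup G => A.map α.toMonoidHom) h
    rwa [Subgroup.map_inf _ _ α.toMonoidHom α.injective, cj_aut, hQmap, Subgroup.map_bot] at this
  obtain ⟨u₁, hu₁, e₁⟩ := huniq _ (hmap n hopp)
  have hpow : ∀ j : ℕ, cj ((α ^ j) n) Q = cj (u₁ ^ j * n) Q := by
    intro j
    induction j with
    | zero => simp
    | succ j ih =>
      rw [pow_succ', MulAut.mul_apply]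
      have h := congrArg (fun A : Subgroup G => A.map α.toMonoidHom) ih
      simp only [cj_aut, hQmap, map_mul, map_pow, hfQ _ hu₁] at h
      rw [h, ← cj_cj, e₁, cj_cj, ← mul_assoc, ← pow_succ]
  have hu1 : u₁ = 1 := by
    refine eq_one_of_pow hU hk (hQU hu₁) (hfree _ (pow_mem hu₁ _) ?_)
    rw [← hpow, pow_orderOf_eq_one, MulAut.one_apply]
  rw [hu1, one_mul] at e₁
  have hall : ∀ g : G, Q ⊓ cj g Q = ⊥ → cj (α g) Q = cj g Q := by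
    intro g hg
    obtain ⟨u, hu, e⟩ := huniq g hg
    have h := congrArg (fun A : Subgroup G => A.map α.toMonoidHom) e
    simp only [cj_aut, hQmap, map_mul, hfQ _ hu] at h
    rw [h, e, ← cj_cj, e₁, cj_cj]
  -- an element of the opposite conjugate is fixed
  obtain ⟨h, hh1, hh2⟩ := hconn n
  obtain ⟨x, hx, ex⟩ := hoppn h hh2
  have hxfix : α x = x := by
    obtain ⟨q, hq, rfl⟩ := hx
    have hxV : α (n * q * n⁻¹) ∈ cj n Q := by
      rw [← e₁]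
      exact ⟨q, hq, by show α n * q * (α n)⁻¹ = _; rw [map_mul, map_mul, map_inv, hfQ q hq]⟩
    have hxV' : n * q * n⁻¹ ∈ cj n Q := ⟨q, hq, rfl⟩
    have e2 : cj (α (n * q * n⁻¹)) Q = cj (n * q * n⁻¹) Q := hall _ (by
      show Q ⊓ cj (n * q * n⁻¹) Q = ⊥
      exact ex ▸ hh1)
    have h3 := congrArg (cj (n * q * n⁻¹)⁻¹) e2
    rw [cj_cj, cj_inv_cj] at h3
    exact (inv_mul_eq_one.1 (hfreeV _ (mul_mem (inv_mem hxV') hxV) h3)).symm
  set H : Subgroup G := MonoidHom.eqLocus α.toMonoidHom (MonoidHom.id G) with hH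
  have hQH : Q ≤ H := hfQ
  have hxH : x ∈ H := hxfix
  have hcjH : ∀ {g : G}, g ∈ H → cj g Q ≤ H := by
    rintro g hg _ ⟨q, hq, rfl⟩
    exact mul_mem (mul_mem hg (hQH hq)) (inv_mem hg)
  have hVH : cj n Q ≤ H := by
    obtain ⟨u, hu, e⟩ := huniq h hh1
    have he : cj n Q = cj u⁻¹ (cj x Q) := by rw [← ex, e, cj_cj, inv_mul_cancel_left]
    rw [he, cj_cj]
    exact hcjH (mul_mem (inv_mem (hQH hu)) hxH)
  have hconj : ∀ g : G, cj g Q ≤ H := by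
    intro g
    obtain ⟨k, hk1, hk2⟩ := hconn g
    obtain ⟨u, hu, e⟩ := huniq k hk1
    have h1 : cj n Q ⊓ cj (u⁻¹ * g) Q = ⊥ := by
      have := congrArg (cj u⁻¹) hk2
      rwa [cj_inf, cj_bot, e, cj_cj, cj_cj, inv_mul_cancel_left, inf_comm] at this
    obtain ⟨v, hv, e'⟩ := hoppn _ h1
    rw [show cj g Q = cj u (cj (u⁻¹ * g) Q) by rw [cj_cj, mul_inv_cancel_left], e', cj_cj]
    exact hcjH (mul_mem (hQH hu) (hVH hv))
  have hH1 : Subgroup.normalClosure (Q : Set G) ≤ H := by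
    refine (Subgroup.closure_le _).2 fun y hy => ?_
    obtain ⟨q, hq, hc⟩ := Group.mem_conjugatesOfSet_iff.1 hy
    obtain ⟨g, rfl⟩ := isConj_iff.1 hc
    exact hconj g ⟨q, hq, rfl⟩
  have htop : Subgroup.normalClosure (Q : Set G) = ⊤ :=
    (Subgroup.normalClosure_normal (s := (Q : Set G))).eq_bot_or_eq_top.resolve_left
      fun hb => hne (le_bot_iff.1 (hb ▸ Subgroup.le_normalClosure))
  exact MulEquiv.ext fun g => hH1 (htop ▸ Subgroup.mem_top g)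

/-- The opposition criterion for an action with `Q` attached to a point. -/
theorem rigid_of_points [IsSimpleGroup G] [Fact p.Prime] {U Q : Subgroup G} (hU : IsPGroup p U)
    (hQU : Q ≤ U) (hne : Q ≠ ⊥) {Ω : Type*} [MulAction G Ω] (R : Ω → Ω → Prop)
    (hinv : ∀ (g : G) (ω ω' : Ω), R ω ω' → R (g • ω) (g • ω'))
    (htrans : ∀ ω ω' : Ω, ∃ g : G, g • ω = ω') (ω₀ ω₁ : Ω)
    (hnorm : ∀ g : G, g • ω₀ = ω₀ → ∀ u ∈ Q, g * u * g⁻¹ ∈ Q)
    (hfix₀ : ∀ u ∈ Q, u • ω₀ = ω₀)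
    (honly : ∀ ω : Ω, (∀ u ∈ Q, u • ω = ω) → ω = ω₀)
    (hfree : ∀ u ∈ Q, u • ω₁ = ω₁ → u = 1)
    (hreg : ∀ ω : Ω, R ω₀ ω → ∃ u ∈ Q, u • ω₁ = ω)
    (hmeet : ∀ g : G, ¬ R ω₀ (g • ω₀) → ∃ q ∈ Q, q ≠ 1 ∧ g⁻¹ * q * g ∈ Q)
    (hconn : ∀ ω : Ω, ∃ ω' : Ω, R ω₀ ω' ∧ R ω ω') : Rigid p U := by
  have heq : ∀ g h : G, g • ω₀ = h • ω₀ → cj g Q = cj h Q := by
    intro g h e
    have hd : (h⁻¹ * g) • ω₀ = ω₀ := by rw [mul_smul, e, inv_smul_smul]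
    have : cj (h⁻¹ * g) Q = Q := by
      refine Subgroup.ext fun x => ⟨?_, fun hx => ?_⟩
      · rintro ⟨y, hy, rfl⟩; exact hnorm _ hd y hy
      · exact ⟨(h⁻¹ * g)⁻¹ * x * (h⁻¹ * g)⁻¹⁻¹,
          hnorm _ (by rw [inv_smul_eq_iff, hd]) x hx, by
          show (h⁻¹ * g) * ((h⁻¹ * g)⁻¹ * x * (h⁻¹ * g)⁻¹⁻¹) * (h⁻¹ * g)⁻¹ = x
          group⟩
    calc cj g Q = cj h (cj (h⁻¹ * g) Q) := by rw [cj_cj, mul_inv_cancel_left]
      _ = cj h Q := by rw [this]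
  have hfixg : ∀ g : G, ∀ q ∈ cj g Q, q • g • ω₀ = g • ω₀ := by
    rintro g _ ⟨q, hq, rfl⟩
    show (g * q * g⁻¹) • g • ω₀ = g • ω₀
    rw [mul_smul, mul_smul, inv_smul_smul, hfix₀ q hq]
  obtain ⟨n, hn⟩ := htrans ω₀ ω₁
  have hbot : Q ⊓ cj n Q = ⊥ := by
    rw [eq_bot_iff]
    rintro q ⟨hq, hq'⟩
    exact hfree q hq (hn ▸ hfixg n q hq')
  have hR : ∀ g : G, R ω₀ (g • ω₀) ↔ Q ⊓ cj g Q = ⊥ := by
    intro g
    refine ⟨fun h => ?_, fun h => ?_⟩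
    · obtain ⟨u, hu, e⟩ := hreg _ h
      rw [heq g (u * n) (by rw [mul_smul, hn, e]), ← cj_cj]
      have := congrArg (cj u) hbot
      rwa [cj_inf, cj_eq_self_of_mem hu, cj_bot] at this
    · by_contra hcon
      obtain ⟨q, hq, hq1, hqg⟩ := hmeet g hcon
      have : q ∈ Q ⊓ cj g Q := ⟨hq, _, hqg, by show g * (g⁻¹ * q * g) * g⁻¹ = q; group⟩
      rw [h] at this
      exact hq1 this
  refine rigid_of_opposite hU hQU hne n hbot (fun g hg => ?_) (fun u hu e => ?_) fun g => ?_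
  · obtain ⟨u, hu, e⟩ := hreg _ ((hR g).2 hg)
    exact ⟨u, hu, heq g (u * n) (by rw [mul_smul, hn, e])⟩
  · refine hfree u hu ?_
    have hQ' : cj (n⁻¹ * (u * n)) Q = Q := by rw [← cj_cj, e, cj_inv_cj]
    have h1 : (n⁻¹ * (u * n)) • ω₀ = ω₀ :=
      honly _ fun q hq => hfixg _ q (hQ'.symm ▸ hq)
    rw [mul_smul, inv_smul_eq_iff, mul_smul, hn] at h1
    exact h1
  · obtain ⟨ω', h1, h2⟩ := hconn (g • ω₀)
    obtain ⟨h, rfl⟩ := htrans ω₀ ω'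
    refine ⟨h, (hR h).1 h1, ?_⟩
    have h3 := hinv g⁻¹ _ _ h2
    rw [inv_smul_smul, ← mul_smul] at h3
    have := congrArg (cj g) ((hR _).1 h3)
    rwa [cj_inf, cj_cj, mul_inv_cancel_left, cj_bot] at this

/-- The opposition criterion through a cover `π` whose kernel fixes every point. -/
theorem rigid_of_cover [IsSimpleGroup G] [Finite G] [Fact p.Prime] {H : Type*} [Group H]
    (π : H →* G) (hπ : Function.Surjective π) {Q : Subgroup H} (hQ : IsPGroup p Q)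
    {Ω : Type*} [MulAction H Ω] (hker : ∀ h : H, π h = 1 → ∀ ω : Ω, h • ω = ω)
    (R : Ω → Ω → Prop) (hinv : ∀ (g : H) (ω ω' : Ω), R ω ω' → R (g • ω) (g • ω'))
    (htrans : ∀ ω ω' : Ω, ∃ g : H, g • ω = ω') (ω₀ ω₁ : Ω)
    (hnorm : ∀ g : H, g • ω₀ = ω₀ → ∀ u ∈ Q, g * u * g⁻¹ ∈ Q)
    (hfix₀ : ∀ u ∈ Q, u • ω₀ = ω₀)
    (honly : ∀ ω : Ω, (∀ u ∈ Q, u • ω = ω) → ω = ω₀)
    (hfree : ∀ u ∈ Q, u • ω₁ = ω₁ → u = 1)
    (hreg : ∀ ω : Ω, R ω₀ ω → ∃ u ∈ Q, u • ω₁ = ω)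
    (hmeet : ∀ g : H, ¬ R ω₀ (g • ω₀) → ∃ q ∈ Q, q ≠ 1 ∧ g⁻¹ * q * g ∈ Q)
    (hne : ∃ q ∈ Q, q ≠ 1)
    (hconn : ∀ ω : Ω, ∃ ω' : Ω, R ω₀ ω' ∧ R ω ω') (P : Sylow p G) :
    Rigid p (P : Subgroup G) := by
  have hinj : ∀ q ∈ Q, π q = 1 → q = 1 := fun q hq h => hfree q hq (hker q h ω₁)
  have hk' : π.ker ≤ (MulAction.toPermHom H Ω).ker := fun h hh =>
    MonoidHom.mem_ker.2 (Equiv.ext fun ω => hker h (MonoidHom.mem_ker.1 hh) ω)
  let φ : G →* Equiv.Perm Ω := π.liftOfSurjective hπ ⟨MulAction.toPermHom H Ω, hk'⟩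
  letI : MulAction G Ω := MulAction.compHom Ω φ
  have hφ : ∀ (h : H) (ω : Ω), π h • ω = h • ω := by
    intro h ω
    show φ (π h) ω = h • ω
    rw [show φ (π h) = MulAction.toPermHom H Ω h from
      DFunLike.congr_fun (MonoidHom.liftOfRightInverse_comp π (Function.surjInv hπ)
        (Function.rightInverse_surjInv hπ) ⟨MulAction.toPermHom H Ω, hk'⟩) h]
    rfl
  obtain ⟨P₀, hP₀⟩ := (hQ.map π).exists_le_sylow
  refine rigid_sylow (P₀ := P₀) ?_ P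
  refine rigid_of_points P₀.2 hP₀ ?_ R ?_ ?_ ω₀ ω₁ ?_ ?_ ?_ ?_ ?_ ?_ hconn
  · obtain ⟨q, hq, hq1⟩ := hne
    intro h
    have : π q ∈ Q.map π := Subgroup.mem_map_of_mem π hq
    rw [h] at this
    exact hq1 (hinj q hq this)
  · intro g ω ω' h
    obtain ⟨a, rfl⟩ := hπ g
    rw [hφ, hφ]; exact hinv a ω ω' h
  · intro ω ω'
    obtain ⟨a, ha⟩ := htrans ω ω'
    exact ⟨π a, by rw [hφ, ha]⟩
  · rintro g hg _ ⟨u, hu, rfl⟩
    obtain ⟨a, rfl⟩ := hπ g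
    rw [hφ] at hg
    exact ⟨_, hnorm a hg u hu, by rw [map_mul, map_mul, map_inv]⟩
  · rintro _ ⟨u, hu, rfl⟩
    rw [hφ]; exact hfix₀ u hu
  · intro ω h
    exact honly ω fun u hu => by rw [← hφ]; exact h _ (Subgroup.mem_map_of_mem π hu)
  · rintro _ ⟨u, hu, rfl⟩ h
    rw [hφ] at h
    rw [hfree u hu h, map_one]
  · intro ω h
    obtain ⟨u, hu, e⟩ := hreg ω h
    exact ⟨π u, Subgroup.mem_map_of_mem π hu, by rw [hφ, e]⟩
  · intro g hg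
    obtain ⟨a, rfl⟩ := hπ g
    rw [hφ] at hg
    obtain ⟨q, hq, hq1, hqa⟩ := hmeet a hg
    exact ⟨π q, Subgroup.mem_map_of_mem π hq, fun h => hq1 (hinj q hq h),
      ⟨_, hqa, by rw [map_mul, map_mul, map_inv]⟩⟩

end Cfsg.Agent.SylowRigid
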