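import Mathlib

/-!
# Coprime automorphisms fixing a Sylow subgroup pointwise

`Rigid p U`: the only automorphism of order prime to `p` fixing `U` pointwise is the identity.
-/

set_option autoImplicit false

namespace Cfsg.Agent.SylowRigid

open Subgroup

variable {G H : Type*} [Group G] [Group H] {p : ℕ}

/-- the only `p'`-automorphism fixing `U` pointwise is trivial -/
def Rigid (p : ℕ) (U : Subgroup G) : Prop :=
  ∀ α : MulAut G, ¬ p ∣ orderOf α → (∀ x ∈ U, α x = x) → α = 1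

theorem pow_apply_eq {α : MulAut G} {g c : G} (hg : α g = g * c) (hc : α c = c) (j : ℕ) :
    (α ^ j) g = g * c ^ j := by
  induction j with
  | zero => simp
  | succ j ih =>
    rw [pow_succ', MulAut.mul_apply, ih, map_mul, hg, map_pow, hc, mul_assoc, ← pow_succ']

theorem eq_one_of_pow [hp : Fact p.Prime] {U : Subgroup G} (hU : IsPGroup p U) {k : ℕ}
    (hk : ¬ p ∣ k) {c : G} (hcU : c ∈ U) (h : c ^ k = 1) : c = 1 := by
  obtain ⟨i, hi⟩ := hU ⟨c, hcU⟩
  have h1 : c ^ p ^ i = 1 := congrArg Subtype.val hi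
  have h2 : orderOf c ∣ Nat.gcd k (p ^ i) :=
    Nat.dvd_gcd (orderOf_dvd_of_pow_eq_one h) (orderOf_dvd_of_pow_eq_one h1)
  rw [Nat.Coprime.gcd_eq_one (Nat.Coprime.pow_right _ ((hp.out.coprime_iff_not_dvd).2 hk).symm),
    Nat.dvd_one, orderOf_eq_one_iff] at h2
  exact h2

/-- An element carrying a subgroup `Q` of `U`, whose centralizer lies in `U`, into `U` is fixed. -/
theorem fixed_of_conj [Fact p.Prime] {U : Subgroup G} (hU : IsPGroup p U) {α : MulAut G}
    (hk : ¬ p ∣ orderOf α) (hfix : ∀ x ∈ U, α x = x) {Q : Subgroup G} (hQ : Q ≤ U)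
    (hC : Subgroup.centralizer (Q : Set G) ≤ U) {g : G} (hg : ∀ q ∈ Q, g * q * g⁻¹ ∈ U) :
    α g = g := by
  have hc : g⁻¹ * α g ∈ U := hC (Subgroup.mem_centralizer_iff.2 fun q hq => by
    have h := hfix _ (hg q hq)
    rw [map_mul, map_mul, map_inv, hfix q (hQ hq), mul_inv_eq_iff_eq_mul] at h
    calc q * (g⁻¹ * α g) = g⁻¹ * (g * q * g⁻¹ * α g) := by group
      _ = g⁻¹ * α g * q := by rw [← h]; group)
  have hac := hfix _ hc
  have h := pow_apply_eq (g := g) (c := g⁻¹ * α g) (by group) hac (orderOf α)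
  rw [pow_orderOf_eq_one, MulAut.one_apply, left_eq_mul] at h
  have := eq_one_of_pow hU hk hc h
  calc α g = g * (g⁻¹ * α g) := by group
    _ = g := by rw [this, mul_one]

/-- The criterion: a generating set of such elements. -/
theorem rigid_of_gens [Fact p.Prime] {U : Subgroup G} (hU : IsPGroup p U) {T : Set G}
    (htop : Subgroup.closure T = ⊤)
    (h : ∀ g ∈ T, ∃ Q ≤ U, Subgroup.centralizer (Q : Set G) ≤ U ∧ ∀ q ∈ Q, g * q * g⁻¹ ∈ U) :
    Rigid p U := by
  intro α hk hfix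
  have hle : Subgroup.closure T ≤ MonoidHom.eqLocus α.toMonoidHom (MonoidHom.id G) := by
    refine (Subgroup.closure_le _).2 fun g hg => ?_
    obtain ⟨Q, hQ, hC, hgQ⟩ := h g hg
    exact fixed_of_conj hU hk hfix hQ hC hgQ
  refine MulEquiv.ext fun x => ?_
  exact hle (htop ▸ Subgroup.mem_top x)

/-- The rank one criterion: `U` regular away from one point. -/
theorem rigid_of_transitive [IsSimpleGroup G] [Fact p.Prime] {U : Subgroup G} (hU : IsPGroup p U)
    (hne : U ≠ ⊥) {Ω : Type*} [MulAction G Ω]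
    (htrans : ∀ ω ω' : Ω, ∃ g : G, g • ω = ω') {ω₀ ω₁ : Ω} (hω₁ : ω₁ ≠ ω₀)
    (hnorm : ∀ g : G, g • ω₀ = ω₀ → ∀ u ∈ U, g * u * g⁻¹ ∈ U)
    (hfix₀ : ∀ u ∈ U, u • ω₀ = ω₀)
    (hfree : ∀ u ∈ U, ∀ ω : Ω, ω ≠ ω₀ → u • ω = ω → u = 1)
    (hreg : ∀ ω, ω ≠ ω₀ → ∃ u ∈ U, u • ω₁ = ω) : Rigid p U := by
  intro α hk hfix
  -- the stabiliser of `ω₀` is the normaliser of `U`
  have hstab : ∀ g : G, g • ω₀ = ω₀ ↔ ∀ u ∈ U, g * u * g⁻¹ ∈ U := by
    refine fun g => ⟨hnorm g, fun h => ?_⟩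
    by_contra hne'
    obtain ⟨u, hu, hu1⟩ := U.bot_or_exists_ne_one.resolve_left hne
    refine hu1 (conj_eq_one_iff.1 (hfree _ (h u hu) (g • ω₀) hne' ?_))
    rw [mul_smul, mul_smul, inv_smul_smul, hfix₀ u hu]
  have hstab' : ∀ (β : MulAut G), (∀ x ∈ U, β x = x) → ∀ g : G, g • ω₀ = ω₀ → β g • ω₀ = ω₀ := by
    intro β hβ g hg
    refine (hstab _).2 fun u hu => ?_
    have h := hnorm g hg u hu
    rw [← hβ _ h, map_mul, map_mul, map_inv, hβ u hu] at h
    exact h
  have hbase : ∀ (β : MulAut G), (∀ x ∈ U, β x = x) → ∀ g g' : G, g • ω₀ = g' • ω₀ →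
      β g • ω₀ = β g' • ω₀ := by
    intro β hβ g g' h
    have := hstab' β hβ (g'⁻¹ * g) (by rw [mul_smul, h, inv_smul_smul])
    rw [map_mul, map_inv, mul_smul, inv_smul_eq_iff] at this
    exact this
  obtain ⟨s, hs⟩ := htrans ω₀ ω₁
  have hsfix : α.symm = α⁻¹ := rfl
  have hne1 : α s • ω₀ ≠ ω₀ := by
    intro h
    have h' := hstab' α⁻¹ (fun x hx => by
      show α.symm x = x
      exact α.injective (by rw [MulEquiv.apply_symm_apply, hfix x hx])) _ h
    rw [MulAut.inv_apply, MulEquiv.symm_apply_apply] at h'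
    exact hω₁ (hs.symm.trans h')
  obtain ⟨u₀, hu₀, he⟩ := hreg _ hne1
  have hpow : ∀ j : ℕ, (α ^ j) s • ω₀ = u₀ ^ j • ω₁ := by
    intro j
    induction j with
    | zero => simp [hs]
    | succ j ih =>
      rw [pow_succ', MulAut.mul_apply, hbase α hfix _ (u₀ ^ j * s) (by rw [ih, mul_smul, hs]),
        map_mul, map_pow, hfix u₀ hu₀, mul_smul, ← he, ← mul_smul, ← pow_succ]
  have hu1 : u₀ = 1 := by
    refine eq_one_of_pow hU hk hu₀ (hfree _ (pow_mem hu₀ _) ω₁ hω₁ ?_)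
    have h := hpow (orderOf α)
    rw [pow_orderOf_eq_one, MulAut.one_apply, hs] at h
    exact h.symm
  -- every point is fixed
  have hall : ∀ g : G, α g • ω₀ = g • ω₀ := by
    intro g
    by_cases hg : g • ω₀ = ω₀
    · rw [hg]; exact hstab' α hfix g hg
    · obtain ⟨u, hu, hgu⟩ := hreg _ hg
      rw [hbase α hfix g (u * s) (by rw [mul_smul, hs, hgu]), map_mul, hfix u hu, mul_smul, ← he,
        hu1, one_smul, hgu]
  have hker : ∀ g : G, g⁻¹ * α g ∈ (MulAction.toPermHom G Ω).ker := by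
    intro g
    refine MonoidHom.mem_ker.2 (Equiv.ext fun ω => ?_)
    obtain ⟨x, rfl⟩ := htrans ω₀ ω
    show (g⁻¹ * α g) • x • ω₀ = x • ω₀
    have h := hall (g * x)
    rw [map_mul, mul_smul, mul_smul, hall x] at h
    rw [mul_smul, inv_smul_eq_iff, h]
  have hbot : (MulAction.toPermHom G Ω).ker = ⊥ :=
    ((MulAction.toPermHom G Ω).normal_ker.eq_bot_or_eq_top).resolve_right fun h => hω₁ (by
      have hs' : (MulAction.toPermHom G Ω) s = 1 := MonoidHom.mem_ker.1 (h ▸ Subgroup.mem_top s)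
      rw [← hs]; exact Equiv.ext_iff.1 hs' ω₀)
  refine MulEquiv.ext fun g => ?_
  have h := hker g
  rw [hbot, Subgroup.mem_bot, inv_mul_eq_one] at h
  exact h.symm

/-- The rank one criterion, by counting. -/
theorem rigid_of_regular [IsSimpleGroup G] [Fact p.Prime] {U : Subgroup G} (hU : IsPGroup p U)
    (hne : U ≠ ⊥) {Ω : Type*} [MulAction G Ω] [Finite Ω] [Finite U]
    (htrans : ∀ ω ω' : Ω, ∃ g : G, g • ω = ω') (ω₀ : Ω)
    (hnorm : ∀ g : G, g • ω₀ = ω₀ → ∀ u ∈ U, g * u * g⁻¹ ∈ U)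
    (hfix₀ : ∀ u ∈ U, u • ω₀ = ω₀)
    (hfree : ∀ u ∈ U, ∀ ω : Ω, ω ≠ ω₀ → u • ω = ω → u = 1)
    (hcard : Nat.card Ω = Nat.card U + 1) : Rigid p U := by
  have hU2 : 1 < Nat.card U := by
    have := U.one_lt_card_iff_ne_bot.2 hne
    exact this
  obtain ⟨ω₁, hω₁⟩ : ∃ ω₁ : Ω, ω₁ ≠ ω₀ := by
    by_contra h
    push Not at h
    have : Subsingleton Ω := ⟨fun a b => (h a).trans (h b).symm⟩
    have := Finite.card_le_one_iff_subsingleton.2 this
    omega
  have hreg : ∀ ω, ω ≠ ω₀ → ∃ u ∈ U, u • ω₁ = ω := by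
    let f : Option U → Ω := fun o => o.elim ω₀ fun u => (u : G) • ω₁
    have hmove : ∀ u : U, (u : G) • ω₁ ≠ ω₀ := fun u h => hω₁ (by
      have h' := congrArg (fun x => ((u : G))⁻¹ • x) h
      simp only [inv_smul_smul] at h'
      rw [h', hfix₀ _ (inv_mem u.2)])
    have hf : Function.Bijective f := by
      refine (Nat.bijective_iff_injective_and_card f).2 ⟨?_, by
        rw [Finite.card_option, hcard]⟩
      rintro (_ | a) (_ | b) h
      · rfl
      · exact absurd h.symm (hmove b)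
      · exact absurd h (hmove a)
      · have h1 : ((a : G)⁻¹ * b) • ω₁ = ω₁ := by
          rw [mul_smul, show (b : G) • ω₁ = (a : G) • ω₁ from h.symm, inv_smul_smul]
        exact congrArg some (Subtype.ext
          (inv_mul_eq_one.1 (hfree _ (mul_mem (inv_mem a.2) b.2) ω₁ hω₁ h1)))
    intro ω hω
    obtain ⟨o, ho⟩ := hf.2 ω
    rcases o with _ | u
    · exact absurd ho.symm hω
    · exact ⟨u, u.2, ho⟩
  exact rigid_of_transitive hU hne htrans hω₁ hnorm hfix₀ hfree hreg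

theorem rigid_map (e : G ≃* H) {U : Subgroup G} (h : Rigid p U) :
    Rigid p (U.map e.toMonoidHom) := by
  intro α hk hfix
  have hord : orderOf (MulAut.congr e.symm α) = orderOf α :=
    orderOf_injective (MulAut.congr e.symm).toMonoidHom (MulAut.congr e.symm).injective α
  have h1 := h (MulAut.congr e.symm α) (by rwa [hord]) fun x hx => by
    show e.symm (α (e x)) = x
    rw [hfix (e x) (Subgroup.mem_map_of_mem _ hx), e.symm_apply_apply]
  exact (MulAut.congr e.symm).injective (h1.trans (map_one _).symm)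

/-- one Sylow subgroup decides -/
theorem rigid_sylow [Finite G] [Fact p.Prime] {P₀ : Sylow p G} (h : Rigid p (P₀ : Subgroup G))
    (P : Sylow p G) : Rigid p (P : Subgroup G) := by
  obtain ⟨g, rfl⟩ := MulAction.exists_smul_eq G P₀ P
  have := rigid_map (MulAut.conj g) h
  rwa [Sylow.coe_subgroup_smul, Subgroup.pointwise_smul_def]

/-- transport to an isomorphic group -/
theorem rigid_transfer [Fact p.Prime] [Finite H] (e : G ≃* H) (h : ∀ Q : Sylow p H, Rigid p (Q : Subgroup H))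
    (P : Sylow p G) : Rigid p (P : Subgroup G) := by
  have : Finite G := Finite.of_equiv _ e.toEquiv.symm
  have h1 := rigid_map e.symm (h (P.mapSurjective (f := e.toMonoidHom) e.surjective))
  change Rigid p ((Subgroup.map e.toMonoidHom (P : Subgroup G)).map e.symm.toMonoidHom) at h1
  rw [Subgroup.map_map] at h1
  have he : e.symm.toMonoidHom.comp e.toMonoidHom = MonoidHom.id G := MonoidHom.ext e.symm_apply_apply
  rwa [he, Subgroup.map_id] at h1

end Cfsg.Agent.SylowRigid
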