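import Cfsg.Agent.Lib.SylowRigid.RankOne
import Cfsg.Agent.Lib.BN.Basic

/-!
# Rigidity of the Sylow subgroup of a split (B, N)-pair

A single top class meets `U` trivially; below it some root group can be raised.
-/

set_option autoImplicit false

namespace Cfsg.Agent.SylowRigid

open Subgroup Cfsg.Agent.BN.Basic

variable {G : Type*} [Group G] {p : ℕ}

theorem exists_split {B N U : Subgroup G}
    (hsplit : ∀ b ∈ B, ∃ u ∈ U, u⁻¹ * b ∈ N) (hUB : U ≤ B) {b : G} (hb : b ∈ B) :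
    ∃ u ∈ U, ∃ t ∈ B ⊓ N, b = u * t := by
  obtain ⟨u, hu, ht⟩ := hsplit b hb
  exact ⟨u, hu, u⁻¹ * b, ⟨B.mul_mem (B.inv_mem (hUB hu)) hb, ht⟩, by group⟩

theorem rigid_of_bn [IsSimpleGroup G] [Finite G] [Fact p.Prime] (P : Cfsg.BNPair G)
    (U : Sylow p G) (hne : (U : Subgroup G) ≠ ⊥) (hUB : (U : Subgroup G) ≤ P.B)
    (hBU : P.B ≤ normalizer ((U : Subgroup G) : Set G))
    (hsplit : ∀ b ∈ P.B, ∃ u ∈ (U : Subgroup G), u⁻¹ * b ∈ P.N)
    (n₀ : G) (hn₀ : n₀ ∈ P.N) (hopp : (U : Subgroup G) ⊓ cj n₀ U = ⊥)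
    (hy : ∀ s ∈ P.S, ∃ y ∈ dc P s, n₀ * y * n₀⁻¹ ∈ P.B)
    (hstep : ∀ n ∈ P.N, n⁻¹ * n₀ ∈ P.B ∨
      ((∃ x ∈ (U : Subgroup G), x ≠ 1 ∧ n * x * n⁻¹ ∈ (U : Subgroup G)) ∧
        ∃ s ∈ P.S, ∀ b ∈ P.B, n * b * s ∈ dc P (n * s))) :
    Rigid p (U : Subgroup G) := by
  classical
  have hB : ∀ b ∈ P.B, cj b (U : Subgroup G) = U := fun b hb => cj_of_mem_normalizer (hBU hb)
  -- a conjugate meeting `U` trivially comes from the top cell
  have htop : ∀ (g : G) (n : G), n ∈ P.N → g ∈ dc P n → (U : Subgroup G) ⊓ cj g U = ⊥ →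
      n⁻¹ * n₀ ∈ P.B := by
    intro g n hn hg h
    obtain ⟨b, hb, b', hb', rfl⟩ := mem_dc.1 hg
    refine (hstep n hn).resolve_right ?_
    rintro ⟨⟨x, hx, hx1, hxn⟩, -⟩
    refine hx1 ?_
    have hz : b * (n * x * n⁻¹) * b⁻¹ ∈ (U : Subgroup G) ⊓ cj (b * n * b') U := by
      refine ⟨(mem_normalizer_iff.1 (hBU hb) _).1 hxn, ?_⟩
      rw [← cj_cj, hB b' hb', ← cj_cj]
      exact ⟨_, ⟨x, hx, rfl⟩, rfl⟩
    rw [h, mem_bot, conj_eq_one_iff, conj_eq_one_iff] at hz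
    exact hz
  have hcell : ∀ (g : G) (n : G), n ∈ P.N → g ∈ dc P n → n⁻¹ * n₀ ∈ P.B →
      ∃ u ∈ (U : Subgroup G), cj g (U : Subgroup G) = cj (u * n₀) U := by
    intro g n hn hg htopn
    obtain ⟨b, hb, b', hb', rfl⟩ := mem_dc.1 hg
    obtain ⟨u, hu, t, ht, rfl⟩ := exists_split hsplit hUB hb
    refine ⟨u, hu, ?_⟩
    have ht' : n₀⁻¹ * t * n₀⁻¹⁻¹ ∈ P.B := P.conj_mem _ (inv_mem hn₀) t ht
    rw [inv_inv] at ht'
    have e : u * t * n * b' = u * n₀ * ((n₀⁻¹ * t * n₀) * (n⁻¹ * n₀)⁻¹ * b') := by group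
    rw [e, ← cj_cj (u * n₀), hB _ (mul_mem (mul_mem ht' (inv_mem htopn)) hb')]
  refine rigid_of_opposite U.2 le_rfl hne n₀ hopp (fun g hg => ?_) (free_of_opp U hopp) fun g => ?_
  · obtain ⟨w, hw⟩ := bruhat (P := P) g
    obtain ⟨n, hn, rfl⟩ := exists_mkW w
    exact hcell g n hn hw (htop g n hn hw hg)
  · have hcjbot : ∀ {h : G}, h ∈ dc P n₀ → (U : Subgroup G) ⊓ cj h U = ⊥ := by
      intro h hh
      obtain ⟨u, hu, e⟩ := hcell h n₀ hn₀ hh (by rw [inv_mul_cancel]; exact one_mem _)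
      have := congrArg (cj u) hopp
      rwa [cj_inf, cj_eq_self_of_mem hu, cj_bot, cj_cj, ← e] at this
    let S : Set (W P) := {w | ∃ h, h ∈ dc P n₀ ∧ g⁻¹ * h ∈ cell w}
    obtain ⟨w₁, hw₁⟩ := bruhat (P := P) (g⁻¹ * n₀)
    have : Finite (W P) := Quotient.finite _
    obtain ⟨w, hwS, hmax⟩ := Set.exists_max_image S len (Set.toFinite S)
      ⟨w₁, n₀, mem_dc_self _, hw₁⟩
    obtain ⟨h, hh, hgh⟩ := hwS
    obtain ⟨n, hn, rfl⟩ := exists_mkW w
    by_cases htn : n⁻¹ * n₀ ∈ P.B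
    · refine ⟨h, hcjbot hh, ?_⟩
      obtain ⟨u, hu, e⟩ := hcell (g⁻¹ * h) n hn hgh htn
      have h1 : (U : Subgroup G) ⊓ cj (g⁻¹ * h) U = ⊥ := by
        have := congrArg (cj u) hopp
        rwa [cj_inf, cj_eq_self_of_mem hu, cj_bot, cj_cj, ← e] at this
      have := congrArg (cj g) h1
      rwa [cj_inf, cj_bot, cj_cj, mul_inv_cancel_left] at this
    · exfalso
      obtain ⟨-, s, hs, hns⟩ := (hstep n hn).resolve_left htn
      have hnsN : n * s ∈ P.N := mul_mem hn (P.subset hs)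
      -- the length goes up
      have hlen : len (mkW hn) < len (mkW hnsN) := by
        by_contra hle
        set t : P.S := ⟨s, hs⟩ with ht
        have e1 : gen t * (mkW hn)⁻¹ = (mkW hnsN)⁻¹ := by
          rw [mkW_mul hn (P.subset hs), mul_inv_rev]
          exact congrArg (· * _) (gen_inv t).symm
        have hne' := len_gen_mul_ne t (mkW hn)⁻¹
        rw [e1, len_inv, len_inv] at hne'
        have hlt : len (gen t * (mkW hn)⁻¹) < len (mkW hn)⁻¹ := by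
          rw [e1, len_inv, len_inv]; omega
        obtain ⟨x, hx, hxn⟩ := exists_mem_cell_of_lt hlt (inv_mem_cell (mem_cell_mkW hn))
        have hxn' := inv_mem_cell hxn
        rw [inv_inv, mul_inv_rev, inv_inv] at hxn'
        have hx' := inv_mem_cell hx
        rw [gen_inv] at hx'
        obtain ⟨b, hb, b', hb', e⟩ := mem_dc.1 hx'
        rw [e, show n * (b * s * b') = n * b * s * b' by group] at hxn'
        have h3 : n * b * s * b' ∈ cell (mkW hnsN) := mul_right_cell (hns b hb) hb'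
        have h4 := cell_inj hxn' h3
        rw [mkW_mul hn (P.subset hs), left_eq_mul] at h4
        exact gen_ne_one t h4
      obtain ⟨b, hb, b', hb', rfl⟩ := mem_dc.1 hh
      obtain ⟨y, hy, hyn⟩ := hy s hs
      obtain ⟨c, hc, c', hc', e⟩ := mem_dc.1 (show g⁻¹ * (b * n₀) ∈ dc P n from by
        rw [show g⁻¹ * (b * n₀) = g⁻¹ * (b * n₀ * b') * b'⁻¹ by group]
        exact dc_mul_right hgh (inv_mem hb'))
      obtain ⟨d, hd, d', hd', rfl⟩ := mem_dc.1 hy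
      refine absurd (hmax (mkW hnsN) ⟨b * n₀ * (d * s * d'), ?_, ?_⟩) (not_le.2 hlen)
      · refine mem_dc.2 ⟨b * (n₀ * (d * s * d') * n₀⁻¹), mul_mem hb hyn, 1, one_mem _, ?_⟩
        group
      · have h5 : g⁻¹ * (b * n₀ * (d * s * d')) = c * (n * (c' * d) * s) * d' := by
          calc g⁻¹ * (b * n₀ * (d * s * d')) = g⁻¹ * (b * n₀) * (d * s * d') := by group
            _ = _ := by rw [e]; group
        rw [h5]
        exact mul_right_cell (mul_left_cell hc (hns _ (mul_mem hc' hd))) hd'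

end Cfsg.Agent.SylowRigid
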