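import Cfsg.Agent.Lib.SylowRigid.Building
import Cfsg.Agent.SimpleFacts.ChevalleySylow
import Cfsg.Agent.Lib.Chevalley.Twist.AutFrame
import Cfsg.Agent.Lib.Chevalley.Twist.AutExt
import Cfsg.Agent.Lib.Chevalley.NormalForm

/-!
# Rigidity for Chevalley groups in the defining characteristic
-/

set_option autoImplicit false
set_option linter.unusedSectionVars false

open scoped Matrix

namespace Cfsg.Agent.SylowRigid.Chevalley

open Cfsg.Lie Cfsg.Agent.Chevalley Cfsg.Agent.Chevalley.Table Cfsg.Agent.Chevalley.Cert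
  Cfsg.Agent.Chevalley.Group Cfsg.Agent.Chevalley.Weight Cfsg.Agent.Chevalley.Unip
  Cfsg.Agent.Chevalley.Borel Cfsg.Agent.Chevalley.Weyl Cfsg.Agent.Chevalley.Bruhat
  Cfsg.Agent.Chevalley.NormalForm Cfsg.Agent.Chevalley.WeylEnum

theorem rigid {F : Type*} [Field F] [Fintype F] (p : ℕ) [Fact p.Prime] [CharP F p]
    (D : ChevalleyDatum) (hD : D ∈ [chevG2, chevB2, chevD4, chevF4, chevE6, chevE7, chevE8])
    [IsSimpleGroup (D.group F)] (P : Sylow p ↥(D.group F)) :
    Rigid p (P : Subgroup ↥(D.group F)) := by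
  classical
  obtain ⟨T, hC⟩ := Types.All.exists_certified hD
  obtain ⟨U₀, hU₀⟩ := SimpleFacts.ChevalleySylow.exists_sylow (F := F) p D hD
  refine rigid_sylow (P₀ := U₀) ?_ P
  have hUG : D.posUnipotent F ≤ D.group F := le_sup_left.trans (U_sup_V hC).le
  have hUB : D.posUnipotent F ≤ D.borelSubgroup F := le_sup_left
  have hmem : ∀ g : ↥(D.group F), g ∈ (U₀ : Subgroup ↥(D.group F)) ↔
      (g : GL D.Idx F) ∈ D.posUnipotent F := fun g => by rw [hU₀, Subgroup.mem_subgroupOf]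
  obtain ⟨L₀, hL₀, hneg₀⟩ := exists_longest hC
  have hHN : D.diagonalSubgroup F ≤ D.monomialSubgroup F := le_sup_left
  have hrank : 0 < D.rank := by
    simp only [List.mem_cons, List.not_mem_nil, or_false] at hD
    rcases hD with rfl | rfl | rfl | rfl | rfl | rfl | rfl <;> decide
  have hx1 : ∀ i < D.rank, xg hC (D.simple i) (1 : F) ≠ 1 := fun i hi h => by
    rw [← xg_zero hC (D.simple i)] at h
    exact one_ne_zero (xg_injective hC (hC.simple_lt hi) h)
  refine rigid_of_bn (bn (F := F) hC) U₀ ?_ ?_ ?_ ?_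
    ⟨nL hC F L₀, N_le_group hC (nL_mem_N hC hL₀)⟩ (nL_mem_N hC hL₀) ?_ ?_ ?_
  · intro h
    have hx : xg hC (D.simple 0) (1 : F) ∈ D.posUnipotent F :=
      xg_mem_U hC (hC.simple_lt hrank) (hC.phi_simple hrank) 1
    have h1 : (⟨_, hUG hx⟩ : ↥(D.group F)) ∈ (U₀ : Subgroup ↥(D.group F)) := (hmem _).2 hx
    rw [h, Subgroup.mem_bot] at h1
    exact hx1 0 hrank (congrArg Subtype.val h1)
  · exact fun g hg => hUB ((hmem g).1 hg)
  · intro b hb
    have hbn : (b : GL D.Idx F) ∈ Subgroup.normalizer (D.posUnipotent F : Set (GL D.Idx F)) := by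
      have : D.borelSubgroup F ≤ Subgroup.normalizer (D.posUnipotent F : Set (GL D.Idx F)) :=
        sup_le Subgroup.le_normalizer (H_normalizes_U hC)
      exact this hb
    rw [hU₀]
    refine Subgroup.mem_normalizer_iff.2 fun x => ?_
    simpa [Subgroup.mem_subgroupOf] using Subgroup.mem_normalizer_iff.1 hbn (x : GL D.Idx F)
  · intro b hb
    obtain ⟨u, hu, h, hh, e⟩ := (mem_B_iff hC).1 (show (b : GL D.Idx F) ∈ D.borelSubgroup F from hb)
    refine ⟨⟨u, hUG hu⟩, (hmem _).2 hu, ?_⟩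
    show u⁻¹ * (b : GL D.Idx F) ∈ D.monomialSubgroup F
    rw [e, inv_mul_cancel_left]
    exact hHN hh
  · rw [eq_bot_iff]
    rintro g ⟨hg, x, hx, rfl⟩
    have hxU := (hmem x).1 hx
    have hgU := (hmem _).1 hg
    have hV : nL hC F L₀ * (x : GL D.Idx F) * (nL hC F L₀)⁻¹ ∈ D.negUnipotent F := by
      rw [U_eq_closure hC] at hxU
      revert hxU
      suffices hle : Subgroup.closure _ ≤ (D.negUnipotent F).comap
          (MulAut.conj (nL hC F L₀)).toMonoidHom from fun h => hle h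
      refine (Subgroup.closure_le _).2 ?_
      rintro _ ⟨r, t, hr, hp, rfl⟩
      obtain ⟨η, -, e⟩ := nL_conj_x (F := F) hC hL₀ hr
      show nL hC F L₀ * xg hC r t * (nL hC F L₀)⁻¹ ∈ D.negUnipotent F
      rw [e]
      exact xg_mem_V hC (wL_lt hC hL₀ hr) (hneg₀ r hr hp) _
    exact Subgroup.mem_bot.2 (Subtype.ext (U_inf_V hC hgU hV))
  · rintro s ⟨i, hi, hs⟩
    have hr := hC.simple_lt hi
    have hp := hC.phi_simple hi
    obtain ⟨g, hg⟩ := ng_simple_eq (F := F) hC hi (a := -(1 : F)⁻¹)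
      (neg_ne_zero.2 (inv_ne_zero one_ne_zero))
    have e := neg_xg_eq hC (D.simple i) (1 : F)
    rw [hg] at e
    have h1 : xg hC (D.simple i) (1 : F)⁻¹ * tor D g ∈ D.borelSubgroup F :=
      mul_mem (hUB (xg_mem_U hC hr hp _)) (Subgroup.mem_sup_right (tor_mem_H hC g))
    have h2 : xg hC (D.simple i) (1 : F)⁻¹ ∈ D.borelSubgroup F := hUB (xg_mem_U hC hr hp _)
    refine ⟨⟨xg hC (D.neg (D.simple i)) 1, xg_mem_group hC (hC.neg_lt hr) 1⟩,
      BN.Basic.mem_dc.2 ⟨⟨_, B_le_group hC h1⟩, h1, ⟨_, B_le_group hC h2⟩, h2, Subtype.ext ?_⟩, ?_⟩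
    · simp only [Subgroup.coe_mul, hs]
      rw [e]; group
    · show nL hC F L₀ * xg hC (D.neg (D.simple i)) 1 * (nL hC F L₀)⁻¹ ∈ D.borelSubgroup F
      obtain ⟨η, -, e'⟩ := nL_conj_x (F := F) hC hL₀ (hC.neg_lt hr)
      rw [e']
      refine hUB (xg_mem_U hC (wL_lt hC hL₀ (hC.neg_lt hr)) ?_ _)
      rw [wL_neg hC hL₀ hr, hC.phi_neg (wL_lt hC hL₀ hr)]
      have := hneg₀ _ hr hp
      omega
  · intro n hn
    obtain ⟨c, L, hL, hnL⟩ := (mem_N_iff hC).1
      (show (n : GL D.Idx F) ∈ D.monomialSubgroup F from hn)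
    by_cases htop : ∀ i < D.rank, T.phi (wL D L (D.simple i)) < 0
    · left
      have hlong := Twist.longest_of_simple hC hL htop
      obtain ⟨d, hd⟩ := Order.nL_eq_tor_mul (F := F) hC hL₀ hL
        (fun r hr => Twist.longest_unique hC ⟨hL₀, hneg₀⟩ hlong hr)
      show ((n : GL D.Idx F))⁻¹ * nL hC F L₀ ∈ D.borelSubgroup F
      have e : nL hC F L₀ = tor D d * (tor D c)⁻¹ * (n : GL D.Idx F) := by rw [hd, hnL]; group
      rw [e, ← mul_assoc]
      have := H_conj hC (inv_mem (show (n : GL D.Idx F) ∈ D.monomialSubgroup F from hn))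
        (mul_mem (tor_mem_H (F := F) hC d) (inv_mem (tor_mem_H (F := F) hC c)))
      rw [inv_inv] at this
      exact Subgroup.mem_sup_right this
    · right
      push Not at htop
      obtain ⟨i, hi, hpos⟩ := htop
      have hr := hC.simple_lt hi
      have hp := hC.phi_simple hi
      have hpos' : 0 < T.phi (wL D L (D.simple i)) :=
        lt_of_le_of_ne hpos (hC.phi_ne_zero (wL_lt hC hL hr)).symm
      have hconj : ∀ t : F, (n : GL D.Idx F) * xg hC (D.simple i) t * (n : GL D.Idx F)⁻¹ ∈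
          D.posUnipotent F := fun t => by
        obtain ⟨η, -, e⟩ := NormalForm.conj_xg (F := F) hC hL c hr
        rw [hnL, e]
        exact xg_mem_U hC (wL_lt hC hL hr) hpos' _
      refine ⟨⟨⟨_, hUG (xg_mem_U hC hr hp 1)⟩, (hmem _).2 (xg_mem_U hC hr hp 1),
        fun h => hx1 i hi (congrArg Subtype.val h), (hmem _).2 (hconj 1)⟩,
        ⟨ng hC (D.simple i) 1, N_le_group hC (ng_mem_N hC hi)⟩, ⟨i, hi, rfl⟩, fun b hb => ?_⟩
      obtain ⟨u, hu, h, hh, e⟩ := (mem_B_iff hC).1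
        (show (b : GL D.Idx F) ∈ D.borelSubgroup F from hb)
      obtain ⟨v, hv, t, ht⟩ := U_split hC hr hp (inv_mem hu)
      have hs := ng_normalizes_Uom (F := F) hC hi
      have hv' : (ng hC (D.simple i) (1 : F))⁻¹ * v⁻¹ * ng hC (D.simple i) 1 ∈
          D.posUnipotent F := by
        refine Uom_le_U hC (D.simple i) ?_
        have := (Subgroup.mem_normalizer_iff.1 (inv_mem hs) _).1 (inv_mem hv)
        rwa [inv_inv] at this
      have hh' : (ng hC (D.simple i) (1 : F))⁻¹ * h * ng hC (D.simple i) 1 ∈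
          D.diagonalSubgroup F := by
        have := H_conj hC (inv_mem (ng_mem_N (F := F) hC hi)) hh
        rwa [inv_inv] at this
      have h1 : (n : GL D.Idx F) * (xg hC (D.simple i) t)⁻¹ * (n : GL D.Idx F)⁻¹ ∈
          D.borelSubgroup F := by rw [xg_inv hC]; exact hUB (hconj _)
      have h2 : (ng hC (D.simple i) (1 : F))⁻¹ * v⁻¹ * ng hC (D.simple i) 1 *
          ((ng hC (D.simple i) (1 : F))⁻¹ * h * ng hC (D.simple i) 1) ∈ D.borelSubgroup F :=
        mul_mem (hUB hv') (Subgroup.mem_sup_right hh')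
      refine BN.Basic.mem_dc.2 ⟨⟨_, B_le_group hC h1⟩, h1, ⟨_, B_le_group hC h2⟩, h2,
        Subtype.ext ?_⟩
      simp only [Subgroup.coe_mul]
      rw [e, show u = (v * xg hC (D.simple i) t)⁻¹ by rw [← ht, inv_inv]]
      group

end Cfsg.Agent.SylowRigid.Chevalley
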