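import Cfsg.Agent.Lib.SylowRigid.Building
import Cfsg.Agent.Lib.Chevalley.Twist.AutPara

/-!
# Rigidity for the twisted groups in the defining characteristic
-/

set_option autoImplicit false
set_option linter.unusedSectionVars false

open scoped Matrix

namespace Cfsg.Agent.SylowRigid.Twisted

open Cfsg.Lie Cfsg.Agent.Chevalley Cfsg.Agent.Chevalley.Table Cfsg.Agent.Chevalley.Cert
  Cfsg.Agent.Chevalley.Group Cfsg.Agent.Chevalley.Weight Cfsg.Agent.Chevalley.Unip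
  Cfsg.Agent.Chevalley.Borel Cfsg.Agent.Chevalley.Weyl Cfsg.Agent.Chevalley.Bruhat
  Cfsg.Agent.Chevalley.NormalForm Cfsg.Agent.Chevalley.WeylEnum Cfsg.Agent.Chevalley.Twist

variable {D : ChevalleyDatum} {F : Type*} [Field F] [Finite F] {T : Tab} {hC : Certified D T}
  {S : Tw hC F} (O : Orbits S) {K : Subgroup (GL D.Idx F)}

theorem rigid (hK : GenData O K)
    (hne : ∀ a < O.k, ∃ x ∈ Fx S, x ≠ 1 ∧ ∀ c : ℕ → Fˣ,
      x ∈ Uminus D F (tor D c * nL hC F (O.J a)))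
    (hk : 0 < O.k) [IsSimpleGroup K] (p : ℕ) [Fact p.Prime] (U₀ : Sylow p K)
    (hU₀ : (U₀ : Subgroup K) = UK D K) (P : Sylow p K) : Rigid p (P : Subgroup K) := by
  classical
  refine rigid_sylow (P₀ := U₀) ?_ P
  have hUB : D.posUnipotent F ≤ D.borelSubgroup F := le_sup_left
  have hmem : ∀ g : K, g ∈ (U₀ : Subgroup K) ↔ (g : GL D.Idx F) ∈ D.posUnipotent F :=
    fun g => by rw [hU₀]; exact Subgroup.mem_subgroupOf
  have hmemB : ∀ g : K, g ∈ (bnK hK hne).B ↔ (g : GL D.Idx F) ∈ D.borelSubgroup F :=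
    fun g => ⟨fun h => h.1, fun h => ⟨h, g.2⟩⟩
  obtain ⟨n₀, c₀, hn₀⟩ := exists_top O hK
  obtain ⟨hn1, hn2⟩ := longest_map_K (K := K) hC (top_longest O) hn₀
  have hn₀N : (n₀ : GL D.Idx F) ∈ D.monomialSubgroup F :=
    hn₀ ▸ (mem_N_iff hC).2 ⟨c₀, _, flatMap_lt O O.top_lt, rfl⟩
  have hHN : D.diagonalSubgroup F ≤ D.monomialSubgroup F := le_sup_left
  have hneK : ∀ a < O.k, ∃ x : K, x ≠ 1 ∧ ∀ c : ℕ → Fˣ,
      (x : GL D.Idx F) ∈ Uminus D F (tor D c * nL hC F (O.J a)) := fun a ha => by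
    obtain ⟨x, hxF, hx1, hxU⟩ := hne a ha
    exact ⟨⟨x, Fx_le O hK hxF⟩, fun h => hx1 (congrArg Subtype.val h), hxU⟩
  refine rigid_of_bn (bnK hK hne) U₀ ?_ ?_ ?_ ?_ n₀ ⟨hn₀N, n₀.2⟩ ?_ ?_ ?_
  · intro h
    obtain ⟨x, hx1, hxU⟩ := hneK 0 hk
    have h1 : x ∈ (U₀ : Subgroup K) := (hmem x).2 (Uminus_le_U hC _ (hxU 1))
    rw [h, Subgroup.mem_bot] at h1
    exact hx1 h1
  · exact fun g hg => (hmemB g).2 (hUB ((hmem g).1 hg))
  · intro b hb
    have hbn : (b : GL D.Idx F) ∈ Subgroup.normalizer (D.posUnipotent F : Set (GL D.Idx F)) := by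
      have : D.borelSubgroup F ≤ Subgroup.normalizer (D.posUnipotent F : Set (GL D.Idx F)) :=
        sup_le Subgroup.le_normalizer (H_normalizes_U hC)
      exact this ((hmemB b).1 hb)
    refine Subgroup.mem_normalizer_iff.2 fun x => ?_
    show x ∈ (U₀ : Subgroup K) ↔ b * x * b⁻¹ ∈ (U₀ : Subgroup K)
    rw [hmem, hmem]
    simpa using Subgroup.mem_normalizer_iff.1 hbn (x : GL D.Idx F)
  · intro b hb
    obtain ⟨v, hv, h, hh, e⟩ := (mem_B_iff hC).1 ((hmemB b).1 hb)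
    have hhG := H_le_group hC hh
    have hvG : v ∈ D.group F := by
      rw [← U_sup_V hC]; exact Subgroup.mem_sup_left hv
    obtain ⟨v', hv'⟩ : ∃ v', Img S v v' := Img.exists_of_mem hvG
    obtain ⟨h', hh'⟩ : ∃ h', Img S h h' := Img.exists_of_mem hhG
    have hb' : Img S (b : GL D.Idx F) (b : GL D.Idx F) := hK.le b.2
    have e' : (b : GL D.Idx F) = v' * h' := Img.unique hb' (e ▸ Img.mul hv' hh')
    have hvU := img_U S hv hv'
    have hhH := img_H S hh hh'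
    have h1 : v'⁻¹ * v ∈ D.posUnipotent F ⊓ D.diagonalSubgroup F := by
      refine Subgroup.mem_inf.2 ⟨mul_mem (inv_mem hvU) hv, ?_⟩
      rw [show v'⁻¹ * v = v'⁻¹ * (v * h) * h⁻¹ by group, ← e, e', inv_mul_cancel_left]
      exact mul_mem hhH (inv_mem hh)
    rw [U_inf_H hC, Subgroup.mem_bot, inv_mul_eq_one] at h1
    have hvF : v ∈ Fx S := h1 ▸ (h1.symm ▸ hv' : Img S v' v')
    refine ⟨⟨v, Fx_le O hK hvF⟩, (hmem _).2 hv, ?_, ((⟨v, Fx_le O hK hvF⟩ : K)⁻¹ * b).2⟩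
    show v⁻¹ * (b : GL D.Idx F) ∈ D.monomialSubgroup F
    rw [e, inv_mul_cancel_left]
    exact hHN hh
  · rw [eq_bot_iff, hU₀]
    rintro g ⟨hg, hgV⟩
    rw [show cj n₀ (UK D K) = VK D K from hn1] at hgV
    exact Subgroup.mem_bot.2 (U_inf_V_K hC hg hgV)
  · rintro s ⟨a, ha, hs⟩
    obtain ⟨x, hx1, hxU⟩ := hneK a ha
    obtain ⟨c, hc⟩ := mel_eq hK ha
    have hxB : x ∈ (bnK hK hne).B := (hmemB x).2 (hUB (Uminus_le_U hC _ (hxU 1)))
    have hV : s * x * s⁻¹ ∈ VK D K := by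
      show ((s * x * s⁻¹ : K) : GL D.Idx F) ∈ D.negUnipotent F
      simp only [Subgroup.coe_mul, Subgroup.coe_inv, hs, hc]
      exact conj_Uminus hC (hxU c)
    refine ⟨s * x * s⁻¹, ?_, ?_⟩
    · have hP : s * x * s⁻¹ ∈ (bnK hK hne).parabolic {s} :=
        mul_mem (mul_mem (BN.Parabolic.mem_parabolic_of_mem rfl)
          (BN.Parabolic.B_le_parabolic _ hxB)) (inv_mem (BN.Parabolic.mem_parabolic_of_mem rfl))
      have h := BN.Parabolic.parabolic_singleton (⟨s, a, ha, hs⟩ : (bnK hK hne).S)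
      have hP' : s * x * s⁻¹ ∈ ((bnK hK hne).B : Set K) ∪ BN.Basic.dc (bnK hK hne) s := h ▸ hP
      refine hP'.resolve_left fun hB => hx1 ?_
      have h5 : ((s * x * s⁻¹ : K) : GL D.Idx F) ∈ D.borelSubgroup F ⊓ D.negUnipotent F :=
        ⟨(hmemB _).1 hB, hV⟩
      rw [B_inf_V hC, Subgroup.mem_bot] at h5
      exact conj_eq_one_iff.1 (Subtype.ext h5 : s * x * s⁻¹ = 1)
    · refine (hmemB _).2 (hUB ?_)
      have : n₀ * (s * x * s⁻¹) * n₀⁻¹ ∈ UK D K := hn2 ▸ ⟨_, hV, rfl⟩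
      exact this
  · intro n hn
    obtain ⟨c, L, hL, hnL⟩ := (mem_N_iff hC).1
      (show (n : GL D.Idx F) ∈ D.monomialSubgroup F from hn.1)
    have hE : Equiv' S L := equiv_of_fixed (S := S) (c := c) hL (hnL ▸ hK.le n.2)
    by_cases htop : ∀ i < D.rank, T.phi (wL D L (D.simple i)) < 0
    · left
      have hlong := longest_of_simple hC hL htop
      obtain ⟨d, hd⟩ := Order.nL_eq_tor_mul (F := F) hC (flatMap_lt O O.top_lt) hL
        (fun r hr => longest_unique hC (top_longest O) hlong hr)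
      refine (hmemB _).2 ?_
      show ((n : GL D.Idx F))⁻¹ * (n₀ : GL D.Idx F) ∈ D.borelSubgroup F
      have e : (n₀ : GL D.Idx F) = tor D c₀ * tor D d * (tor D c)⁻¹ * (n : GL D.Idx F) := by
        rw [hn₀, hd, hnL]; group
      rw [e, ← mul_assoc]
      have := H_conj hC (inv_mem (show (n : GL D.Idx F) ∈ D.monomialSubgroup F from hn.1))
        (mul_mem (mul_mem (tor_mem_H (F := F) hC c₀) (tor_mem_H (F := F) hC d))
          (inv_mem (tor_mem_H (F := F) hC c)))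
      rw [inv_inv] at this
      exact H_le_B this
    · right
      push Not at htop
      obtain ⟨i, hi, hpos⟩ := htop
      have hpos' : 0 < T.phi (wL D L (D.simple i)) :=
        lt_of_le_of_ne hpos (hC.phi_ne_zero (wL_lt hC hL (hC.simple_lt hi))).symm
      obtain ⟨a, ha, hia⟩ := O.cover i hi
      have hJ := O.J_lt a ha
      have key : ∀ y : GL D.Idx F, y ∈ Uminus D F (tor D (1 : ℕ → Fˣ) * nL hC F (O.J a)) →
          (n : GL D.Idx F) * y * (n : GL D.Idx F)⁻¹ ∈ D.posUnipotent F := by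
        intro y hy
        rw [Uminus_eq hC hJ 1] at hy
        revert hy
        suffices hle : Subgroup.closure {g : GL D.Idx F | ∃ (r : ℕ) (t : F),
            r ∈ invList D T (O.J a) ∧ g = xg hC r t} ≤
            (D.posUnipotent F).comap (MulAut.conj (n : GL D.Idx F)).toMonoidHom from fun h => hle h
        refine (Subgroup.closure_le _).2 ?_
        rintro _ ⟨r, t, hr, rfl⟩
        obtain ⟨h1, h2, h3⟩ := (mem_invList hC).1 hr
        obtain ⟨η, -, e⟩ := NormalForm.conj_xg (F := F) hC hL c h1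
        show (n : GL D.Idx F) * xg hC r t * (n : GL D.Idx F)⁻¹ ∈ D.posUnipotent F
        rw [hnL, e]
        exact xg_mem_U hC (wL_lt hC hL h1) (orbit_pos_inv O hL hE ha hia hpos' r h1 h2 h3) _
      obtain ⟨x, hx1, hxU⟩ := hneK a ha
      obtain ⟨m, hm⟩ : ∃ m : K, (m : GL D.Idx F) = mel hK a := ⟨⟨_, mel_mem hK a⟩, rfl⟩
      obtain ⟨d, hd⟩ := mel_eq hK ha
      refine ⟨⟨x, (hmem x).2 (Uminus_le_U hC _ (hxU 1)), hx1, (hmem _).2 (key _ (hxU 1))⟩,
        m, ⟨a, ha, hm⟩, fun b hb => ?_⟩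
      obtain ⟨v, hv, h, hh, e⟩ := (mem_B_iff hC).1 ((hmemB b).1 hb)
      have hhG := H_le_group hC hh
      have hvG : v ∈ D.group F := by
        rw [← U_sup_V hC]; exact Subgroup.mem_sup_left hv
      obtain ⟨v', hv'⟩ : ∃ v', Img S v v' := Img.exists_of_mem hvG
      obtain ⟨h', hh'⟩ : ∃ h', Img S h h' := Img.exists_of_mem hhG
      have e' : (b : GL D.Idx F) = v' * h' :=
        Img.unique (hK.le b.2) (e ▸ Img.mul hv' hh')
      have h1 : v'⁻¹ * v ∈ D.posUnipotent F ⊓ D.diagonalSubgroup F := by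
        refine Subgroup.mem_inf.2 ⟨mul_mem (inv_mem (img_U S hv hv')) hv, ?_⟩
        rw [show v'⁻¹ * v = v'⁻¹ * (v * h) * h⁻¹ by group, ← e, e', inv_mul_cancel_left]
        exact mul_mem (img_H S hh hh') (inv_mem hh)
      rw [U_inf_H hC, Subgroup.mem_bot, inv_mul_eq_one] at h1
      have hvF : v ∈ Fx S := h1 ▸ (h1.symm ▸ hv' : Img S v' v')
      have hmF : tor D d * nL hC F (O.J a) ∈ Fx S := hK.le (hd ▸ mel_mem hK a)
      obtain ⟨A, B, hAB, hAF, hBF, hAU, hA', hB⟩ :=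
        split_fixed O ha hmF (inv_mem hv) (inv_mem hvF)
      have hB1 : B⁻¹ ∈ Uminus D F (tor D (1 : ℕ → Fˣ) * nL hC F (O.J a)) := by
        rw [Uminus_eq hC hJ 1]; rw [Uminus_eq hC hJ d] at hB
        exact inv_mem hB
      have hsq := mel_sq hK ha
      have hA2 : (mel hK a)⁻¹ * A⁻¹ * mel hK a ∈ D.posUnipotent F := by
        rw [← hd] at hA'
        have h2 := (Subgroup.mem_normalizer_iff.1 (H_normalizes_U hC (inv_mem hsq)) _).1
          (inv_mem hA')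
        rwa [show (mel hK a * mel hK a)⁻¹ * (mel hK a * A * (mel hK a)⁻¹)⁻¹ *
          (mel hK a * mel hK a)⁻¹⁻¹ = (mel hK a)⁻¹ * A⁻¹ * mel hK a by group] at h2
      have h2 : (mel hK a)⁻¹ * h * mel hK a ∈ D.diagonalSubgroup F := by
        have := H_conj hC (inv_mem (mel_mem_N hK ha)) hh
        rwa [inv_inv] at this
      have hl : (n : GL D.Idx F) * B⁻¹ * (n : GL D.Idx F)⁻¹ ∈ D.borelSubgroup F :=
        hUB (key _ hB1)
      have hlK : (n : GL D.Idx F) * B⁻¹ * (n : GL D.Idx F)⁻¹ ∈ K :=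
        mul_mem (mul_mem n.2 (Fx_le O hK (inv_mem hBF))) (inv_mem n.2)
      refine BN.Basic.mem_dc.2 ⟨⟨_, hlK⟩, (hmemB _).2 hl,
        (n * m)⁻¹ * (⟨_, hlK⟩ : K)⁻¹ * (n * b * m), (hmemB _).2 ?_, by group⟩
      show ((n : GL D.Idx F) * m)⁻¹ * ((n : GL D.Idx F) * B⁻¹ * (n : GL D.Idx F)⁻¹)⁻¹ *
        ((n : GL D.Idx F) * b * m) ∈ D.borelSubgroup F
      rw [e, hm, show v = (A * B)⁻¹ by rw [← hAB, inv_inv]]
      rw [show ((n : GL D.Idx F) * mel hK a)⁻¹ *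
          ((n : GL D.Idx F) * B⁻¹ * (n : GL D.Idx F)⁻¹)⁻¹ *
          ((n : GL D.Idx F) * ((A * B)⁻¹ * h) * mel hK a) =
        (mel hK a)⁻¹ * A⁻¹ * mel hK a * ((mel hK a)⁻¹ * h * mel hK a) by group]
      exact mul_mem (hUB hA2) (H_le_B h2)

end Cfsg.Agent.SylowRigid.Twisted
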