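import Cfsg.Agent.Lib.SylowRigid.Opposite
import Cfsg.Agent.Lib.Classical.GL2

/-!
# Rigidity for `PSL₂` in the defining characteristic
-/

set_option autoImplicit false
set_option linter.unusedSectionVars false

namespace Cfsg.Agent.SylowRigid.Two

open Matrix Cfsg.Agent.Classical.GL2
open scoped LinearAlgebra.Projectivization

variable {F : Type*} [Field F] [Fintype F] {p : ℕ} [Fact p.Prime] [CharP F p]

local notation "SL" => Matrix.SpecialLinearGroup (Fin 2) F
local notation "M" => Matrix (Fin 2) (Fin 2) F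
local notation "PSL" => Matrix.ProjectiveSpecialLinearGroup (Fin 2) F
local notation "V" => Fin 2 → F
local notation "π" => (QuotientGroup.mk' (Subgroup.center SL) : SL →* PSL)

theorem ne_zero_mulVec (g : SL) {v : V} (hv : v ≠ 0) : (g : M) *ᵥ v ≠ 0 := fun h => hv (by
  have h1 := congrArg (fun x => ((g⁻¹ : SL) : M) *ᵥ x) h
  simp only [Matrix.mulVec_mulVec, ← Matrix.SpecialLinearGroup.coe_mul, inv_mul_cancel,
    Matrix.SpecialLinearGroup.coe_one, Matrix.one_mulVec, Matrix.mulVec_zero] at h1
  exact h1)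

/-- The action on the projective line. -/
@[instance_reducible] noncomputable def lineAct : MulAction SL (ℙ F (Fin 2 → F)) where
  smul g := Projectivization.map (Matrix.mulVecLin (g : M))
    (fun a b h => sub_eq_zero.1 (by
      by_contra hne
      exact ne_zero_mulVec g hne (by
        rw [Matrix.mulVec_sub]; exact sub_eq_zero.2 h)))
  one_smul := by
    intro ω
    induction ω using Projectivization.ind with | _ v hv =>
    show Projectivization.map _ _ _ = _
    simp [Projectivization.map_mk]
  mul_smul := by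
    intro g h ω
    induction ω using Projectivization.ind with | _ v hv =>
    show Projectivization.map _ _ _ = Projectivization.map _ _ (Projectivization.map _ _ _)
    repeat erw [Projectivization.map_mk]
    congr 1
    simp [Matrix.mulVec_mulVec]

attribute [local instance] lineAct

theorem smul_mk (g : SL) {v : V} (hv : v ≠ 0) :
    g • Projectivization.mk F v hv = Projectivization.mk F ((g : M) *ᵥ v) (ne_zero_mulVec g hv) :=
  Projectivization.map_mk _ _ _ _

theorem mk_eq {u v : V} (hu : u ≠ 0) (hv : v ≠ 0) :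
    Projectivization.mk F u hu = Projectivization.mk F v hv ↔ u 0 * v 1 = u 1 * v 0 := by
  rw [Projectivization.mk_eq_mk_iff']
  constructor
  · rintro ⟨a, rfl⟩; simp only [Pi.smul_apply, smul_eq_mul]; ring
  · intro h
    by_cases h0 : v 0 = 0
    · have h1 : v 1 ≠ 0 := fun h1 => hv (funext fun i => by fin_cases i <;> assumption)
      have hu0 : u 0 = 0 := by
        rw [h0, mul_zero] at h; exact (mul_eq_zero.1 h).resolve_right h1
      refine ⟨u 1 / v 1, funext fun i => ?_⟩
      fin_cases i <;> simp [h0, hu0, div_mul_cancel₀ _ h1]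
    · refine ⟨u 0 / v 0, funext fun i => ?_⟩
      fin_cases i
      · simp [div_mul_cancel₀ _ h0]
      · simp only [Fin.mk_one, Pi.smul_apply, smul_eq_mul]
        field_simp
        linear_combination h

theorem rigid [IsSimpleGroup PSL] (P : Sylow p PSL) : Rigid p (P : Subgroup PSL) := by
  classical
  let Q : Subgroup SL := (uniHom F).range
  have hQp : IsPGroup p Q := by
    rintro ⟨_, c, rfl⟩
    refine ⟨1, Subtype.ext ?_⟩
    show uniHom F c ^ p ^ 1 = 1
    rw [← map_pow, pow_one, show c ^ p = 1 from by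
      apply Multiplicative.toAdd.injective
      simp, map_one]
  have e0 : (![1, 0] : V) ≠ 0 := fun h => by simpa using congrFun h 0
  have e1 : (![0, 1] : V) ≠ 0 := fun h => by simpa using congrFun h 1
  have hu : ∀ (c : F) (v : V), ((uniSL c : SL) : M) *ᵥ v = ![v 0 + c * v 1, v 1] := fun c v => by
    funext i; rw [coe_uniSL]; fin_cases i <;> simp [Matrix.mulVec, dotProduct, Fin.sum_univ_two]
  have hmem : ∀ c : F, uniSL c ∈ Q := fun c => ⟨Multiplicative.ofAdd c, rfl⟩
  have hreg : ∀ ω : ℙ F V, Projectivization.mk F _ e0 ≠ ω →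
      ∃ u ∈ Q, u • Projectivization.mk F _ e1 = ω := by
    intro ω h
    induction ω using Projectivization.ind with | _ v hv =>
    rw [ne_eq, mk_eq] at h
    have h1 : v 1 ≠ 0 := by simpa using h
    refine ⟨uniSL (v 0 / v 1), hmem _, ?_⟩
    rw [smul_mk, mk_eq, hu]
    simp [div_mul_cancel₀ _ h1]
  have hnorm : ∀ g : SL, g • Projectivization.mk F _ e0 = Projectivization.mk F _ e0 →
      ∀ u ∈ Q, g * u * g⁻¹ ∈ Q := by
    rintro g hg _ ⟨c, rfl⟩
    rw [smul_mk, mk_eq] at hg
    have h10 : (g : M) 1 0 = 0 := by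
      simpa [Matrix.mulVec, dotProduct, Fin.sum_univ_two, eq_comm] using hg
    set d : F := c.toAdd with hdef
    refine ⟨Multiplicative.ofAdd ((g : M) 0 0 * (g : M) 0 0 * d), ?_⟩
    rw [eq_mul_inv_iff_mul_eq]
    have hd := g.2
    rw [Matrix.det_fin_two, h10, mul_zero, sub_zero] at hd
    refine Subtype.ext ?_
    show !![1, (g : M) 0 0 * (g : M) 0 0 * d; 0, 1] * (g : M) = (g : M) * !![1, d; 0, 1]
    ext i j
    fin_cases i <;> fin_cases j <;>
      simp [Matrix.mul_apply, Fin.sum_univ_two, h10] <;> linear_combination ((g : M) 0 0 * d) * hd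
  refine rigid_of_cover π (QuotientGroup.mk'_surjective _) hQp (fun h hh (ω : ℙ F V) => ?_)
    (fun a b => a ≠ b) (fun g a b h => fun e => h (smul_left_cancel g e)) ?_
    (Projectivization.mk F _ e0) (Projectivization.mk F _ e1) hnorm ?_ ?_ ?_ hreg ?_
    ⟨_, hmem 1, fun h => ?_⟩ ?_ P
  · induction ω using Projectivization.ind with | _ v hv =>
    obtain ⟨r, -, hr⟩ := Matrix.SpecialLinearGroup.mem_center_iff.1 ((QuotientGroup.eq_one_iff h).1 hh)
    rw [smul_mk, mk_eq, ← hr]
    simp [Matrix.scalar_apply, Matrix.mulVec_diagonal]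
    ring
  · have key : ∀ ω : ℙ F V, ∃ g : SL, g • Projectivization.mk F _ e0 = ω := by
      intro ω
      induction ω using Projectivization.ind with | _ v hv =>
      by_cases h0 : v 0 = 0
      · have h1 : v 1 ≠ 0 := fun h1 => hv (funext fun i => by fin_cases i <;> assumption)
        let g : SL := ⟨!![0, -(v 1)⁻¹; v 1, 0], by simp [Matrix.det_fin_two, inv_mul_cancel₀ h1]⟩
        refine ⟨g, ?_⟩
        rw [smul_mk g, mk_eq, show (g : M) = !![0, -(v 1)⁻¹; v 1, 0] from rfl]
        simp [Matrix.mulVec, dotProduct, Fin.sum_univ_two, h0]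
      · let g : SL := ⟨!![v 0, 0; v 1, (v 0)⁻¹], by simp [Matrix.det_fin_two, mul_inv_cancel₀ h0]⟩
        refine ⟨g, ?_⟩
        rw [smul_mk g, mk_eq, show (g : M) = !![v 0, 0; v 1, (v 0)⁻¹] from rfl]
        simp [Matrix.mulVec, dotProduct, Fin.sum_univ_two, mul_comm]
    intro a b
    obtain ⟨g, rfl⟩ := key a
    obtain ⟨h, rfl⟩ := key b
    exact ⟨h * g⁻¹, by rw [mul_smul, inv_smul_smul]⟩
  · rintro _ ⟨c, rfl⟩
    rw [smul_mk, mk_eq]
    show ((uniSL c.toAdd : SL) : M).mulVec _ 0 * _ = ((uniSL c.toAdd : SL) : M).mulVec _ 1 * _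
    rw [hu]; simp
  · intro ω h
    induction ω using Projectivization.ind with | _ v hv =>
    have h1 := h _ (hmem 1)
    rw [smul_mk, mk_eq, hu] at h1
    rw [mk_eq]
    simp at h1 ⊢
    have h2 : v 1 * v 1 = 0 := by linear_combination h1
    exact (mul_self_eq_zero.1 h2).symm
  · rintro _ ⟨c, rfl⟩ h
    rw [smul_mk, mk_eq] at h
    have hc : c.toAdd = 0 := by
      have := h
      show c.toAdd = 0
      simpa [uniHom, coe_uniSL, Matrix.mulVec, dotProduct, Fin.sum_univ_two] using this
    rw [show c = 1 from Multiplicative.toAdd.injective hc, map_one]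
  · intro g hg
    simp only [ne_eq, not_not] at hg
    refine ⟨uniSL 1, hmem 1, fun h => ?_, ?_⟩
    · have h1 := congrArg (fun s : SL => (s : M) 0 1) h
      simp [coe_uniSL] at h1
    · have := hnorm g⁻¹ (by rw [inv_smul_eq_iff, ← hg]) _ (hmem 1)
      rwa [inv_inv] at this
  · have h1 := congrArg (fun s : SL => (s : M) 0 1) h
    simp [coe_uniSL] at h1
  · intro ω
    have e2 : (![1, 1] : V) ≠ 0 := fun h => by simpa using congrFun h 0
    by_cases h : ω = Projectivization.mk F _ e1
    · refine ⟨Projectivization.mk F _ e2, ?_, ?_⟩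
      · rw [ne_eq, mk_eq]; simp
      · rw [h, ne_eq, mk_eq]; simp
    · exact ⟨Projectivization.mk F _ e1, by rw [ne_eq, mk_eq]; simp, h⟩

end Cfsg.Agent.SylowRigid.Two
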